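import Cfsg.Agent.Lib.Small.SecRankFour.Transv

/-!
# The alternating group of degree five on a group of order sixteen
-/

set_option autoImplicit false

namespace Cfsg.Lib.Small.SecRankFour

open Subgroup

abbrev A5 := ↥(alternatingGroup (Fin 5))

theorem card_A5 : Nat.card A5 = 60 := by rw [nat_card_alternatingGroup, Nat.card_fin]; rfl

/-- An element of order five of `A₅` with an involution inverting it. -/
theorem exists_five_pair : ∃ g s : A5, g ^ 5 = 1 ∧ g ≠ 1 ∧ s * s = 1 ∧ s ≠ 1 ∧ s * g * s⁻¹ = g⁻¹ := by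
  let g : A5 := ⟨finRotate 5, Equiv.Perm.mem_alternatingGroup.2 (by decide)⟩
  let s : A5 := ⟨Equiv.swap 1 4 * Equiv.swap 2 3, Equiv.Perm.mem_alternatingGroup.2 (by decide)⟩
  exact ⟨g, s, by decide, by decide, by decide, by decide, by decide⟩

/-- An element of order three of `A₅`. -/
theorem exists_three : ∃ d : A5, d ^ 3 = 1 ∧ d ≠ 1 :=
  ⟨⟨Equiv.swap 0 1 * Equiv.swap 1 2, Equiv.Perm.mem_alternatingGroup.2 (by decide)⟩, by decide, by decide⟩

variable {W : Type*} [CommGroup W] [Finite W]

/-- Fixed points of an automorphism of prime order are congruent to the order. -/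
theorem fixed_modEq {p : ℕ} [Fact p.Prime] {a : MulAut W} (ha : a ^ p = 1) :
    Nat.card W ≡ Nat.card (fixed a) [MOD p] := by
  classical
  letI : MulAction ↥(zpowers a) W := MulAction.compHom W (zpowers a).subtype
  have hp : IsPGroup p ↥(zpowers a) := fun ⟨w, hw⟩ => by
    obtain ⟨k, rfl⟩ := mem_zpowers_iff.1 hw
    exact ⟨1, Subtype.ext (by
      show (a ^ k) ^ p ^ 1 = 1
      rw [pow_one, ← zpow_natCast, ← zpow_mul, mul_comm, zpow_mul, zpow_natCast, ha, one_zpow])⟩
  refine (hp.card_modEq_card_fixedPoints W).trans (congrArg (· % p) ?_)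
  refine Nat.card_congr (Equiv.subtypeEquivRight fun w => ?_)
  rw [MulAction.mem_fixedPoints]
  constructor
  · intro h
    exact h ⟨a, mem_zpowers a⟩
  · intro h x
    obtain ⟨k, hk⟩ := mem_zpowers_iff.1 x.2
    show (x : MulAut W) w = w
    rw [← hk]
    have hs : a ∈ MulAction.stabilizer (MulAut W) w := h
    exact (zpow_mem hs k : a ^ k ∈ MulAction.stabilizer (MulAut W) w)

theorem eq_one_of_fixed_eq_top {a : MulAut W} (h : fixed a = ⊤) : a = 1 :=
  MulEquiv.ext fun w => mem_fixed.1 (h ▸ mem_top w)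

theorem fixed_one : fixed (1 : MulAut W) = ⊤ := eq_top_iff.2 fun _ _ => mem_fixed.2 rfl

/-- A nontrivial automorphism of order five of a group of order dividing sixteen. -/
theorem five_fixed (hd : Nat.card W ∣ 16) {b : MulAut W} (hb : b ^ 5 = 1) (hb1 : b ≠ 1) :
    Nat.card W = 16 ∧ fixed b = ⊥ := by
  haveI : Fact (Nat.Prime 5) := ⟨by norm_num⟩
  have hm := fixed_modEq hb
  have hf : Nat.card (fixed b) ∣ Nat.card W := card_subgroup_dvd_card _
  have hne : Nat.card (fixed b) ≠ Nat.card W := fun h => hb1 (eq_one_of_fixed_eq_top (eq_top_of_card_eq _ h))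
  have h1 := Nat.mem_divisors.2 ⟨hd, by norm_num⟩
  have h2 := Nat.mem_divisors.2 ⟨hf.trans hd, by norm_num⟩
  have hle := Nat.le_of_dvd Nat.card_pos hf
  unfold Nat.ModEq at hm
  rw [show Nat.divisors 16 = {1, 2, 4, 8, 16} from by decide] at h1 h2
  simp only [Finset.mem_insert, Finset.mem_singleton] at h1 h2
  have h : Nat.card W = 16 ∧ Nat.card (fixed b) = 1 := by omega
  exact ⟨h.1, card_eq_one.1 h.2⟩

/-- An involution inverting a fixed point free automorphism of order five fixes four points. -/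
theorem inverter_fixed (h2 : ∀ w : W, w ^ 2 = 1) (hW : Nat.card W = 16) {a b : MulAut W}
    (ha : a * a = 1) (hb : b ^ 5 = 1) (hfb : fixed b = ⊥) (hab : a * b * a⁻¹ = b⁻¹) :
    Nat.card (fixed a) = 4 ∧ (disp a).range = fixed a := by
  have hb1 : b ≠ 1 := fun h => by
    rw [h, fixed_one] at hfb
    have := congrArg (fun S : Subgroup W => Nat.card S) hfb
    simp [hW] at this
  have hb2 : b * b ≠ 1 := fun h => hb1 (by
    have : b ^ 5 = b * ((b * b) * (b * b)) := by simp [pow_succ, mul_assoc]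
    rw [h, mul_one, mul_one, hb] at this
    exact this.symm)
  have ha1 : a ≠ 1 := fun h => hb2 (by
    rw [h, one_mul, inv_one, mul_one] at hab
    rw [mul_eq_one_iff_eq_inv]; exact hab)
  have h4 : Nat.card (fixed a) = 4 := by
    rcases card_fixed_cases h2 hW ha ha1 with h | h
    · exact h
    exfalso
    have hdis : fixed a ⊓ fixed (b * a * b⁻¹) = ⊥ := by
      refine eq_bot_iff.2 fun w hw => ?_
      rw [← hfb, mem_fixed]
      have e : b * a * b⁻¹ * a = b * b := by
        rw [← inv_inj, ← mul_left_inj a] at hab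
        have hai : a⁻¹ = a := inv_eq_of_mul_eq_one_left ha
        calc b * a * b⁻¹ * a = b * (a * b⁻¹ * a⁻¹) := by rw [hai]; group
          _ = b * b := by
            congr 1
            have := hab
            simp only [mul_inv_rev, inv_inv, mul_assoc] at this ⊢
            rw [inv_mul_cancel, mul_one] at this
            have h := congrArg (fun x => x * a⁻¹) this
            simpa [mul_assoc] using h
      have hbb : (b * b) w = w := by
        rw [← e, MulAut.mul_apply, mem_fixed.1 hw.1, mem_fixed.1 hw.2]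
      have h4 : (b * b) * (b * b) * b = 1 := by
        rw [← hb]; simp [pow_succ, mul_assoc]
      have := DFunLike.congr_fun h4 w
      rw [MulAut.mul_apply, MulAut.mul_apply, MulAut.one_apply] at this
      have hs : b ∈ MulAction.stabilizer (MulAut W) w := by
        have hbb' : b * b ∈ MulAction.stabilizer (MulAut W) w := hbb
        have hall : (b * b) * (b * b) * b ∈ MulAction.stabilizer (MulAut W) w := h4 ▸ one_mem _
        exact (mul_mem_cancel_left (mul_mem hbb' hbb')).1 hall
      exact hs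
    have h1 := index_inf_le (H := fixed a) (K := fixed (b * a * b⁻¹))
    have hi1 := card_mul_index (fixed a)
    have hi2 := card_mul_index (fixed (b * a * b⁻¹))
    rw [card_fixed_conj, h, hW] at hi2
    rw [h, hW] at hi1
    rw [hdis, index_bot, hW] at h1
    nlinarith
  refine ⟨h4, eq_of_le_of_card_ge (range_disp_le h2 ha) ?_⟩
  have hmul := card_mul_index (disp a).ker
  rw [index_ker, hW, ker_disp h2, h4] at hmul
  omega

/-- `A₅` has at most two orbits on the nonidentity elements. -/
theorem two_orbits (hW : Nat.card W = 16) (ρ : A5 →* MulAut W) (hρ : Function.Injective ρ) :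
    ∃ w₁ w₂ : W, ∀ w : W, w ≠ 1 → ∃ g : A5, ρ g w₁ = w ∨ ρ g w₂ = w := by
  classical
  haveI : Fact (Nat.Prime 5) := ⟨by norm_num⟩
  haveI : Fact (Nat.Prime 3) := ⟨by norm_num⟩
  by_contra hno
  push Not at hno
  obtain ⟨g, s, hg5, hg1, -⟩ := exists_five_pair
  obtain ⟨d, hd3, hd1⟩ := exists_three
  letI : MulAction A5 W := MulAction.compHom W ρ
  have hfg : fixed (ρ g) = ⊥ := (five_fixed (hW ▸ dvd_rfl) (by rw [← map_pow, hg5, map_one])
    (fun h => hg1 (hρ (h.trans (map_one ρ).symm)))).2
  obtain ⟨w₁, hw₁, -⟩ := hno 1 1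
  obtain ⟨w₂, hw₂, hn2⟩ := hno w₁ w₁
  obtain ⟨w₃, hw₃, hn3⟩ := hno w₁ w₂
  have hsize : ∀ w : W, w ≠ 1 → 5 ≤ (MulAction.orbit A5 w).ncard := by
    intro w hw
    have hdvd : (MulAction.stabilizer A5 w).index = (MulAction.orbit A5 w).ncard :=
      MulAction.index_stabilizer _ _
    have hgn : g ∉ MulAction.stabilizer A5 w := fun h => hw (by
      have : w ∈ fixed (ρ g) := h
      rwa [hfg, mem_bot] at this)
    haveI : IsSimpleGroup A5 := alternatingGroup.isSimpleGroup (by simp)
    have hfac := Cfsg.Lib.Small.card_dvd_factorial (H := MulAction.stabilizer A5 w)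
      (fun h => hgn (h ▸ mem_top g))
    rw [card_A5, hdvd] at hfac
    by_contra hlt
    push Not at hlt
    interval_cases (MulAction.orbit A5 w).ncard <;> norm_num [Nat.factorial] at hfac
  have hone : ∀ w : W, w ≠ 1 → (1 : W) ∉ MulAction.orbit A5 w := fun w hw ⟨k, hk⟩ =>
    hw ((ρ k).injective (hk.trans (map_one _).symm))
  set O1 := MulAction.orbit A5 w₁
  set O2 := MulAction.orbit A5 w₂
  set O3 := MulAction.orbit A5 w₃
  have hd12 : Disjoint O1 O2 := Set.disjoint_left.2 fun c h1 h2 => by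
    have e : O2 = O1 := (MulAction.orbit_eq_iff.2 h2).symm.trans (MulAction.orbit_eq_iff.2 h1)
    obtain ⟨k, hk⟩ : w₂ ∈ O1 := e ▸ MulAction.mem_orbit_self w₂
    exact (hn2 k).1 hk
  have hd13 : Disjoint O1 O3 := Set.disjoint_left.2 fun c h1 h2 => by
    have e : O3 = O1 := (MulAction.orbit_eq_iff.2 h2).symm.trans (MulAction.orbit_eq_iff.2 h1)
    obtain ⟨k, hk⟩ : w₃ ∈ O1 := e ▸ MulAction.mem_orbit_self w₃
    exact (hn3 k).1 hk
  have hd23 : Disjoint O2 O3 := Set.disjoint_left.2 fun c h1 h2 => by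
    have e : O3 = O2 := (MulAction.orbit_eq_iff.2 h2).symm.trans (MulAction.orbit_eq_iff.2 h1)
    obtain ⟨k, hk⟩ : w₃ ∈ O2 := e ▸ MulAction.mem_orbit_self w₃
    exact (hn3 k).2 hk
  have hsum : O1.ncard + O2.ncard + O3.ncard ≤ 15 := by
    rw [← Set.ncard_union_eq hd12, ← Set.ncard_union_eq (Set.disjoint_union_left.2 ⟨hd13, hd23⟩)]
    refine (Set.ncard_le_ncard (t := ({1} : Set W)ᶜ) ?_).trans_eq ?_
    · rintro c ((h | h) | h) rfl
      · exact hone _ hw₁ h
      · exact hone _ hw₂ h
      · exact hone _ hw₃ h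
    · rw [Set.ncard_compl, Set.ncard_singleton, hW]
  have h5 : 5 ≤ O1.ncard := hsize _ hw₁
  have h5' : 5 ≤ O2.ncard := hsize _ hw₂
  have h5'' : 5 ≤ O3.ncard := hsize _ hw₃
  -- fixed points of the element of order three
  have hfd : Nat.card (fixed (ρ d)) ≤ 4 := by
    have hm := fixed_modEq (a := ρ d) (p := 3) (by rw [← map_pow, hd3, map_one])
    have hne : Nat.card (fixed (ρ d)) ≠ 16 := fun h => hd1 (hρ ((eq_one_of_fixed_eq_top
      (eq_top_of_card_eq _ (h.trans hW.symm))).trans (map_one ρ).symm))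
    have h2 := Nat.mem_divisors.2 ⟨hW ▸ card_subgroup_dvd_card (fixed (ρ d)), by norm_num⟩
    unfold Nat.ModEq at hm
    rw [hW] at hm
    rw [show Nat.divisors 16 = {1, 2, 4, 8, 16} from by decide] at h2
    simp only [Finset.mem_insert, Finset.mem_singleton] at h2
    omega
  have htwo : ∀ w : W, (MulAction.orbit A5 w).ncard = 5 →
      2 ≤ (MulAction.orbit A5 w ∩ (fixed (ρ d) : Set W)).ncard := by
    intro w hw
    letI : MulAction ↥(zpowers d) (MulAction.orbit A5 w) :=
      MulAction.compHom _ (zpowers d).subtype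
    have hp : IsPGroup 3 ↥(zpowers d) := IsPGroup.of_card (n := 1)
      (by rw [Nat.card_zpowers, orderOf_eq_prime hd3 hd1, pow_one])
    have hm := hp.card_modEq_card_fixedPoints (MulAction.orbit A5 w)
    have he : Nat.card (MulAction.fixedPoints ↥(zpowers d) (MulAction.orbit A5 w)) =
        (MulAction.orbit A5 w ∩ (fixed (ρ d) : Set W)).ncard := by
      rw [← Nat.card_coe_set_eq]
      refine Nat.card_congr
        { toFun := fun x => ⟨x.1.1, x.1.2, ?_⟩
          invFun := fun x => ⟨⟨x.1, x.2.1⟩, fun k => ?_⟩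
          left_inv := fun x => rfl
          right_inv := fun x => rfl }
      · exact congrArg Subtype.val (x.2 ⟨d, mem_zpowers d⟩)
      · obtain ⟨j, hj⟩ := mem_zpowers_iff.1 k.2
        refine Subtype.ext ?_
        show (k : A5) • x.1 = x.1
        rw [← hj]
        have hs : d ∈ MulAction.stabilizer A5 x.1 := x.2.2
        exact (zpow_mem hs j : d ^ j ∈ MulAction.stabilizer A5 x.1)
    rw [he, Nat.card_coe_set_eq, hw] at hm
    unfold Nat.ModEq at hm
    omega
  have hall : (O1 ∩ (fixed (ρ d) : Set W)).ncard + (O2 ∩ (fixed (ρ d) : Set W)).ncard +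
      (O3 ∩ (fixed (ρ d) : Set W)).ncard + 1 ≤ 4 := by
    refine le_trans ?_ hfd
    show _ ≤ Nat.card ↥(fixed (ρ d) : Set W)
    rw [Nat.card_coe_set_eq, ← Set.ncard_union_eq (hd12.mono Set.inter_subset_left Set.inter_subset_left),
      ← Set.ncard_union_eq ((Set.disjoint_union_left.2 ⟨hd13, hd23⟩).mono
        (Set.union_subset_union Set.inter_subset_left Set.inter_subset_left) Set.inter_subset_left),
      ← Set.ncard_singleton (1 : W), ← Set.ncard_union_eq (Set.disjoint_singleton_right.2 (by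
        rintro ((⟨h, -⟩ | ⟨h, -⟩) | ⟨h, -⟩)
        · exact hone _ hw₁ h
        · exact hone _ hw₂ h
        · exact hone _ hw₃ h))]
    refine Set.ncard_le_ncard ?_
    rintro c (((⟨-, h⟩ | ⟨-, h⟩) | ⟨-, h⟩) | rfl)
    · exact h
    · exact h
    · exact h
    · exact (fixed (ρ d)).one_mem
  have hO1 : 2 ≤ (O1 ∩ (fixed (ρ d) : Set W)).ncard := htwo w₁ (show O1.ncard = 5 by omega)
  have hO2 : 2 ≤ (O2 ∩ (fixed (ρ d) : Set W)).ncard := htwo w₂ (show O2.ncard = 5 by omega)
  have hO3 : 2 ≤ (O3 ∩ (fixed (ρ d) : Set W)).ncard := htwo w₃ (show O3.ncard = 5 by omega)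
  omega

end Cfsg.Lib.Small.SecRankFour
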