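import Cfsg.Agent.Lib.Small.SecRankFour.Five.Layer
import Cfsg.Agent.Lib.TwoGroup.Models

/-!
# The extraspecial group of order thirty-two and minus type
-/

set_option autoImplicit false

namespace Cfsg.Lib.Small.SecRankFour

open Subgroup

/-- Invariant sets of a fixed point free automorphism of order five. -/
theorem invariant_ncard {W : Type*} [Group W] [Finite W] {b : MulAut W} (hb : b ^ 5 = 1)
    (hfix : ∀ w : W, b w = w → w = 1) {s : Set W} (hs : ∀ w ∈ s, b w ∈ s) :
    s.ncard % 5 = (s ∩ {1}).ncard % 5 := by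
  classical
  haveI : Fact (Nat.Prime 5) := ⟨by norm_num⟩
  have hmem : ∀ (k : ℕ) (w : W), w ∈ s → (b ^ k) w ∈ s := fun k => by
    induction k with
    | zero => exact fun w hw => hw
    | succ k ih => intro w hw; rw [pow_succ']; exact hs _ (ih w hw)
  have hpow : ∀ x : ↥(zpowers b), ∃ k : ℕ, (x : MulAut W) = b ^ k := fun x => by
    obtain ⟨k, hk⟩ := mem_powers_iff_mem_zpowers.2 x.2
    exact ⟨k, hk.symm⟩
  letI : MulAction ↥(zpowers b) s :=
    { smul := fun x w => ⟨(x : MulAut W) w.1, by obtain ⟨k, hk⟩ := hpow x; rw [hk]; exact hmem k _ w.2⟩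
      one_smul := fun w => Subtype.ext rfl
      mul_smul := fun x y w => Subtype.ext rfl }
  have hp : IsPGroup 5 ↥(zpowers b) := fun x => ⟨1, Subtype.ext (by
    obtain ⟨k, hk⟩ := hpow x
    show (x : MulAut W) ^ 5 ^ 1 = 1
    rw [hk, pow_one, ← pow_mul, mul_comm, pow_mul, hb, one_pow])⟩
  have h := hp.card_modEq_card_fixedPoints s
  have he : Nat.card (MulAction.fixedPoints ↥(zpowers b) s) = (s ∩ {1}).ncard := by
    rw [← Nat.card_coe_set_eq]
    exact Nat.card_congr
      { toFun := fun w => ⟨w.1.1, w.1.2, hfix _ (congrArg Subtype.val (w.2 ⟨b, mem_zpowers b⟩))⟩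
        invFun := fun w => ⟨⟨w.1, w.2.1⟩, fun x => Subtype.ext (by
          show (x : MulAut W) w.1 = w.1
          rw [(w.2.2 : w.1 = 1), map_one])⟩
        left_inv := fun w => rfl
        right_inv := fun w => rfl }
  rw [he, Nat.card_coe_set_eq] at h
  exact h

variable {P : Type*} [Group P] [Finite P]

/-- The central product of a quaternion and a dihedral group of order eight. -/
theorem extraspecial_minus (Z : Subgroup P) [Z.Normal] (hZ : Nat.card Z = 2)
    (hW : Nat.card (P ⧸ Z) = 16) (hsq : ∀ v : P, v * v ∈ Z) (hne : ∃ v : P, v * v ≠ 1)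
    (β : MulAut P) (hβ : β ^ 5 = 1) (hβZ : ∀ v ∈ Z, β v = v) (hβf : ∀ v : P, β v * v⁻¹ ∈ Z → v ∈ Z) :
    Nat.card P = 32 ∧ ∃ A B : Subgroup P, Nonempty (↥A ≃* QuaternionGroup 2) ∧
      Nonempty (↥B ≃* DihedralGroup 4) ∧ (∀ a ∈ A, ∀ b ∈ B, a * b = b * a) ∧
        A ⊔ B = ⊤ ∧ A ⊓ B = center P := by
  classical
  have hP : Nat.card P = 32 := by rw [card_eq_card_quotient_mul_card_subgroup Z, hW, hZ]
  refine ⟨hP, ?_⟩
  obtain ⟨v₀, hv₀⟩ := hne
  set z := v₀ * v₀ with hzdef
  have hzZ : z ∈ Z := hsq v₀
  have hZeq : ∀ x ∈ Z, x = 1 ∨ x = z := by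
    intro x hx
    obtain ⟨c, d, -, hset⟩ := Nat.card_eq_two_iff.1 hZ
    have m1 := hset.symm.le (Set.mem_univ (⟨x, hx⟩ : Z))
    have m2 := hset.symm.le (Set.mem_univ (1 : Z))
    have m3 := hset.symm.le (Set.mem_univ (⟨z, hzZ⟩ : Z))
    have hne' : (⟨z, hzZ⟩ : Z) ≠ 1 := fun h => hv₀ (congrArg Subtype.val h)
    simp only [Set.mem_insert_iff, Set.mem_singleton_iff] at m1 m2 m3
    rcases m1 with m1 | m1 <;> rcases m2 with m2 | m2 <;> rcases m3 with m3 | m3 <;>
      first
      | (exact absurd (m3.trans m2.symm) hne')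
      | (exact Or.inl (congrArg Subtype.val (m1.trans m2.symm)))
      | (exact Or.inr (congrArg Subtype.val (m1.trans m3.symm)))
  have hzc : ∀ v : P, z * v = v * z := fun v => by
    rcases hZeq _ ((inferInstance : Z.Normal).conj_mem z hzZ v) with h | h
    · exact absurd (by simpa using h) hv₀
    · rw [mul_inv_eq_iff_eq_mul] at h; exact h.symm
  have hz2 : z * z = 1 := by
    rcases hZeq _ (mul_mem hzZ hzZ) with h | h
    · exact h
    · exact absurd (mul_eq_left.1 h) hv₀
  have hZc : ∀ x ∈ Z, ∀ v : P, x * v = v * x := fun x hx v => by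
    rcases hZeq x hx with rfl | rfl
    · simp
    · exact hzc v
  let p := QuotientGroup.mk' Z
  have hp1 : ∀ x, p x = 1 ↔ x ∈ Z := fun x => QuotientGroup.eq_one_iff x
  have hWinv : ∀ x, (p x)⁻¹ = p x := fun x =>
    inv_eq_of_mul_eq_one_left (by rw [← map_mul]; exact (hp1 _).2 (hsq x))
  have hpc : ∀ x y, p x * p y = p y * p x := fun x y => by
    have h := hWinv (x * y)
    rw [map_mul, mul_inv_rev, hWinv, hWinv] at h
    exact h.symm
  have hcomm : ∀ x y, x * y * x⁻¹ * y⁻¹ ∈ Z := fun x y => (hp1 _).1 (by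
    rw [map_mul, map_mul, map_mul, map_inv, map_inv, hpc x y]; group)
  have hsqp : ∀ x y, p x = p y → x * x = y * y := fun x y h => by
    obtain ⟨m, hm, e⟩ : ∃ m ∈ Z, x = y * m :=
      ⟨y⁻¹ * x, (hp1 _).1 (by rw [map_mul, map_inv, h, inv_mul_cancel]), by group⟩
    have hm2 : m * m = 1 := by
      rcases hZeq m hm with h' | h' <;> rw [h']
      · exact one_mul 1
      · exact hz2
    rw [e, show y * m * (y * m) = y * (m * y) * m by group, hZc m hm y,
      show y * (y * m) * m = y * y * (m * m) by group, hm2, mul_one]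
  -- the induced automorphism
  have hmapZ : Z.map β.toMonoidHom = Z := by
    refine le_antisymm ?_ fun x hx => ⟨x, hx, hβZ x hx⟩
    rintro _ ⟨x, hx, rfl⟩
    show β x ∈ Z
    rw [hβZ x hx]; exact hx
  let βb : MulAut (P ⧸ Z) := QuotientGroup.congr Z Z β hmapZ
  have hβb : ∀ x, βb (p x) = p (β x) := fun x => rfl
  have hβpow : ∀ (k : ℕ) (x : P), (βb ^ k) (p x) = p ((β ^ k) x) := by
    intro k
    induction k with
    | zero => exact fun x => rfl
    | succ k ih => intro x; rw [pow_succ', pow_succ', MulAut.mul_apply, MulAut.mul_apply, ih, hβb]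
  have hb5 : βb ^ 5 = 1 := MulEquiv.ext fun w => by
    obtain ⟨x, rfl⟩ := QuotientGroup.mk'_surjective Z w
    rw [hβpow, hβ, MulAut.one_apply, MulAut.one_apply]
  have hbfix : ∀ w, βb w = w → w = 1 := fun w hw => by
    obtain ⟨x, rfl⟩ := QuotientGroup.mk'_surjective Z w
    rw [hβb] at hw
    exact (hp1 x).2 (hβf x ((hp1 _).1 (by rw [map_mul, map_inv, hw, mul_inv_cancel])))
  have hsub : ∀ S : Subgroup (P ⧸ Z), (∀ w ∈ S, βb w ∈ S) → S = ⊥ ∨ S = ⊤ := by
    intro S hS
    have h := invariant_ncard hb5 hbfix hS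
    rw [Set.inter_eq_right.2 (Set.singleton_subset_iff.2 S.one_mem), Set.ncard_singleton,
      ← Nat.card_coe_set_eq] at h
    have hd := Nat.mem_divisors.2 ⟨hW ▸ card_subgroup_dvd_card S, by norm_num⟩
    rw [show Nat.divisors 16 = {1, 2, 4, 8, 16} from by decide] at hd
    simp only [Finset.mem_insert, Finset.mem_singleton] at hd
    have hc : Nat.card S = 1 ∨ Nat.card S = 16 := by
      change Nat.card ↥S % 5 = 1 % 5 at h
      omega
    rcases hc with hc | hc
    · exact Or.inl (card_eq_one.1 hc)
    · exact Or.inr (eq_top_of_card_eq _ (hc.trans hW.symm))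
  set N1 : Set (P ⧸ Z) := {w | ∃ x, p x = w ∧ x * x = z} with hN1
  set T1 : Set (P ⧸ Z) := {w | w ≠ 1 ∧ ∃ x, p x = w ∧ x * x = 1} with hT1
  have hN1i : ∀ w ∈ N1, βb w ∈ N1 := by
    rintro w ⟨x, rfl, hx⟩
    exact ⟨β x, rfl, by rw [← map_mul, hx, hβZ z hzZ]⟩
  have hT1i : ∀ w ∈ T1, βb w ∈ T1 := by
    rintro w ⟨hw, x, rfl, hx⟩
    exact ⟨fun h => hw (βb.injective (h.trans (map_one βb).symm)), β x, rfl, by rw [← map_mul, hx, map_one]⟩
  have hN1one : (1 : P ⧸ Z) ∉ N1 := by
    rintro ⟨x, hx, hx2⟩
    refine hv₀ (hx2.symm.trans ?_)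
    rw [hsqp x 1 (by rw [hx, map_one]), one_mul]
  have hN5 : N1.ncard % 5 = 0 := by
    rw [invariant_ncard hb5 hbfix hN1i, Set.inter_singleton_eq_empty.2 hN1one, Set.ncard_empty]
  have hT5 : T1.ncard % 5 = 0 := by
    rw [invariant_ncard hb5 hbfix hT1i, Set.inter_singleton_eq_empty.2 (fun h => h.1 rfl), Set.ncard_empty]
  -- the centre
  have hcen : center P = Z := by
    refine le_antisymm ?_ fun x hx => mem_center_iff.2 fun v => (hZc x hx v).symm
    rcases hsub ((center P).map p) (by
      rintro _ ⟨x, hx, rfl⟩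
      exact ⟨β x, mem_center_iff.2 fun v => by
        obtain ⟨v, rfl⟩ := β.surjective v
        rw [← map_mul, ← map_mul, mem_center_iff.1 hx v], rfl⟩) with h | h
    · rw [Subgroup.map_eq_bot_iff, QuotientGroup.ker_mk'] at h; exact h
    exfalso
    have habel : ∀ x y : P, x * y = y * x := fun x y => by
      obtain ⟨x', hx', e⟩ : p x ∈ (center P).map p := h ▸ mem_top _
      obtain ⟨m, hm, rfl⟩ : ∃ m ∈ Z, x = x' * m :=
        ⟨x'⁻¹ * x, (hp1 _).1 (by rw [map_mul, map_inv, e, inv_mul_cancel]), by group⟩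
      rw [mul_assoc, hZc m hm y, ← mul_assoc, ← mem_center_iff.1 hx' y, mul_assoc]
    let sqHom : P →* P :=
      { toFun := fun x => x * x
        map_one' := one_mul 1
        map_mul' := fun x y => by
          rw [show x * y * (x * y) = x * (y * x) * y by group, habel y x]; group }
    rcases hsub (sqHom.ker.map p) (by
      rintro _ ⟨x, hx, rfl⟩
      refine ⟨β x, MonoidHom.mem_ker.2 ?_, rfl⟩
      show β x * β x = 1
      rw [← map_mul, show x * x = 1 from MonoidHom.mem_ker.1 hx, map_one]) with h' | h'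
    · rw [Subgroup.map_eq_bot_iff, QuotientGroup.ker_mk'] at h'
      have hm := card_mul_index sqHom.ker
      rw [index_ker, hP] at hm
      have h1 := card_dvd_of_le h'
      have h2 : sqHom.range ≤ Z := by rintro _ ⟨x, rfl⟩; exact hsq x
      have h3 := card_dvd_of_le h2
      rw [hZ] at h1 h3
      have := Nat.le_of_dvd two_pos h1
      have := Nat.le_of_dvd two_pos h3
      nlinarith
    · obtain ⟨x, hx, e⟩ : p v₀ ∈ sqHom.ker.map p := h' ▸ mem_top _
      exact hv₀ (((hsqp v₀ x e.symm)).trans (MonoidHom.mem_ker.1 hx))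
  -- two anticommuting elements of order four
  obtain ⟨u, hu, v, hv, huv⟩ : ∃ u, u * u = z ∧ ∃ v, v * v = z ∧ v * u ≠ u * v := by
    by_contra hno
    push Not at hno
    have hc : IsMulCommutative ↥(closure {x : P | x * x = z}) :=
      isMulCommutative_closure fun a ha b hb => (hno a ha b hb).symm
    rcases hsub ((closure {x : P | x * x = z}).map p) (by
      rintro _ ⟨x, hx, rfl⟩
      refine ⟨β x, ?_, rfl⟩
      have hle : closure {x : P | x * x = z} ≤ (closure {x : P | x * x = z}).comap β.toMonoidHom :=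
        (closure_le _).2 fun w hw => subset_closure (show β w * β w = z by
          rw [← map_mul, (hw : w * w = z), hβZ z hzZ])
      exact hle hx) with h | h
    · have : p v₀ ∈ ((closure {x : P | x * x = z}).map p) := mem_map_of_mem p (subset_closure rfl)
      rw [h, mem_bot, hp1] at this
      exact hN1one ⟨v₀, (hp1 _).2 this, rfl⟩
    · have habel : ∀ x y : P, x * y = y * x := fun x y => by
        obtain ⟨x', hx', e⟩ : p x ∈ (closure {x : P | x * x = z}).map p := h ▸ mem_top _
        obtain ⟨y', hy', e'⟩ : p y ∈ (closure {x : P | x * x = z}).map p := h ▸ mem_top _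
        obtain ⟨m, hm, rfl⟩ : ∃ m ∈ Z, x = x' * m :=
          ⟨x'⁻¹ * x, (hp1 _).1 (by rw [map_mul, map_inv, e, inv_mul_cancel]), by group⟩
        obtain ⟨n, hn, rfl⟩ : ∃ n ∈ Z, y = y' * n :=
          ⟨y'⁻¹ * y, (hp1 _).1 (by rw [map_mul, map_inv, e', inv_mul_cancel]), by group⟩
        have hxy : x' * y' = y' * x' :=
          congrArg Subtype.val (hc.is_comm.comm ⟨x', hx'⟩ ⟨y', hy'⟩)
        rw [show x' * m * (y' * n) = x' * (m * y') * n by group, hZc m hm y',
          show x' * (y' * m) * n = x' * y' * (m * n) by group, hxy, hZc m hm n,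
          show y' * n * (x' * m) = y' * (n * x') * m by group, hZc n hn x']
        group
      have : center P = ⊤ := eq_top_iff.2 fun x _ => mem_center_iff.2 fun w => habel w x
      rw [this] at hcen
      have := congrArg (fun S : Subgroup P => Nat.card S) hcen
      simp [hP, hZ] at this
  have hanti : ∀ x y : P, x * y ≠ y * x → x * y = z * (y * x) := fun x y h => by
    rcases hZeq _ (hcomm x y) with e | e
    · refine absurd ?_ h
      calc x * y = (x * y * x⁻¹ * y⁻¹) * (y * x) := by group
        _ = y * x := by rw [e, one_mul]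
    · calc x * y = (x * y * x⁻¹ * y⁻¹) * (y * x) := by group
        _ = z * (y * x) := by rw [e]
  set A : Subgroup P := closure {u, v} with hA
  have hz1 : z ≠ 1 := hv₀
  have hord : ∀ x : P, x * x = z → orderOf x = 4 := fun x hx => by
    refine orderOf_eq_prime_pow (p := 2) (n := 1) ?_ ?_
    · rw [pow_one, sq, hx]; exact hz1
    · rw [show 2 ^ (1 + 1) = 2 * 2 from rfl, pow_mul, sq x, hx, sq, hz2]
  have hQ : Nonempty (↥A ≃* QuaternionGroup 2) := by
    refine Cfsg.Lib.TwoGroup.equiv_quaternion (m := 2) (hord u hu) (by rw [sq, hu, hv]) ?_ ?_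
    · rw [hanti v u huv, eq_inv_iff_mul_eq_one, show z * (u * v) * v⁻¹ * u = z * (u * u) by group, hu, hz2]
    · intro h
      obtain ⟨k, rfl⟩ := mem_zpowers_iff.1 h
      exact huv (Commute.zpow_self u k).eq
  have hA8 : Nat.card A = 8 := by
    obtain ⟨e⟩ := hQ
    rw [Nat.card_congr e.toEquiv, Cfsg.Lib.TwoGroup.card_quaternion two_ne_zero]
  set C : Subgroup P := centralizer {u, v} with hC
  have hCmem : ∀ x, x ∈ C ↔ u * x = x * u ∧ v * x = x * v := fun x => by
    rw [hC, mem_centralizer_iff]; simp
  have hAC : ∀ a ∈ A, ∀ b ∈ C, a * b = b * a := fun a ha b hb => by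
    have hle : A ≤ centralizer {b} := (closure_le _).2 fun w hw => by
      rw [SetLike.mem_coe, mem_centralizer_singleton_iff]
      rcases hw with rfl | hw
      · exact ((hCmem b).1 hb).1
      · rw [Set.mem_singleton_iff] at hw; subst hw; exact ((hCmem b).1 hb).2
    exact mem_centralizer_singleton_iff.1 (hle ha)
  have hUA : u ∈ A := subset_closure (by simp)
  have hVA : v ∈ A := subset_closure (by simp)
  have hsup : A ⊔ C = ⊤ := by
    refine eq_top_iff.2 fun x _ => ?_
    obtain ⟨a, ha, ha1, ha2⟩ : ∃ a ∈ A, u * (a * x) = (a * x) * u ∧ v * (a * x) = (a * x) * v := by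
      by_cases h1 : u * x = x * u <;> by_cases h2 : v * x = x * v
      · exact ⟨1, A.one_mem, by simpa using h1, by simpa using h2⟩
      · refine ⟨u, hUA, by rw [← mul_assoc, mul_assoc u x, ← h1, ← mul_assoc], ?_⟩
        rw [← mul_assoc, hanti v u huv, mul_assoc, mul_assoc u v, hanti v x h2,
          ← mul_assoc u z, ← hzc u, mul_assoc z u, ← mul_assoc z z, hz2, one_mul, mul_assoc]
      · refine ⟨v, hVA, ?_, by rw [← mul_assoc, mul_assoc v x, ← h2, ← mul_assoc]⟩
        rw [← mul_assoc, hanti u v (Ne.symm huv), mul_assoc, mul_assoc v u, hanti u x h1,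
          ← mul_assoc v z, ← hzc v, mul_assoc z v, ← mul_assoc z z, hz2, one_mul, mul_assoc]
      · refine ⟨u * v, mul_mem hUA hVA, ?_, ?_⟩
        · rw [show u * v * x * u = u * v * (x * u) by group, hanti x u (Ne.symm h1),
            show u * v * (z * (u * x)) = u * (v * z) * (u * x) by group, ← hzc v,
            show u * (z * v) * (u * x) = u * z * (v * u) * x by group, hanti v u huv, ← hzc u,
            show z * u * (z * (u * v)) * x = z * (u * z) * (u * v * x) by group, ← hzc u,
            show z * (z * u) * (u * v * x) = z * z * (u * (u * v * x)) by group, hz2, one_mul]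
        · rw [show v * (u * v * x) = v * u * (v * x) by group, hanti v u huv,
            show u * v * x * v = u * v * (x * v) by group, hanti x v (Ne.symm h2),
            ← mul_assoc (u * v) z, ← hzc (u * v)]
    have hx : x = a⁻¹ * (a * x) := by group
    rw [hx]
    exact mul_mem (mem_sup_left (inv_mem ha)) (mem_sup_right ((hCmem _).2 ⟨ha1, ha2⟩))
  have hcenC : Z ≤ A ⊓ C := fun x hx => by
    refine ⟨?_, (hCmem x).2 ⟨(hZc x hx u).symm, (hZc x hx v).symm⟩⟩
    rcases hZeq x hx with rfl | rfl
    · exact A.one_mem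
    · exact hu ▸ mul_mem hUA hUA
  have hinf : A ⊓ C = center P := by
    rw [hcen]
    refine (eq_of_le_of_card_ge hcenC ?_).symm
    rw [hZ]
    set D := C.subgroupOf A with hD
    have hDc : Nat.card D = Nat.card ↥(A ⊓ C) := by
      rw [hD, ← inf_subgroupOf_right]
      rw [inf_comm]
      exact Nat.card_congr (subgroupOfEquivOfLe inf_le_left).toEquiv
    have hmul := card_mul_index D
    rw [hA8, hDc] at hmul
    have h3 : 3 ≤ D.index := by
      rw [index_eq_card]
      have h := Nat.card_le_card_of_injective (α := Fin 3)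
        ![((1 : A) : A ⧸ D), ((⟨u, hUA⟩ : A) : A ⧸ D), ((⟨v, hVA⟩ : A) : A ⧸ D)] (by
        intro i j hij
        have huC : u ∉ C := fun h => huv ((hCmem u).1 h).2
        have hvC : v ∉ C := fun h => huv ((hCmem v).1 h).1.symm
        have huvC : u⁻¹ * v ∉ C := fun h => by
          refine huv ?_
          have e := ((hCmem _).1 h).1
          rw [mul_inv_cancel_left] at e
          calc v * u = u * (u⁻¹ * v * u) := by group
            _ = u * v := by rw [← e]
        fin_cases i <;> fin_cases j <;> first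
          | rfl
          | (exfalso
             have h := QuotientGroup.eq.1 hij
             simp [hD, mem_subgroupOf] at h
             first
              | exact huC h
              | exact hvC h
              | exact huvC h
              | exact huvC (by simpa using inv_mem h)
              | exact huC (by simpa using inv_mem h)
              | exact hvC (by simpa using inv_mem h)))
      simpa using h
    have h2 : Nat.card ↥(A ⊓ C) ∣ 8 := Dvd.intro _ hmul
    have := Nat.mem_divisors.2 ⟨h2, by norm_num⟩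
    rw [show Nat.divisors 8 = {1, 2, 4, 8} from by decide] at this
    simp only [Finset.mem_insert, Finset.mem_singleton] at this
    rcases this with e | e | e | e <;> rw [e] at hmul ⊢ <;> omega
  have hC8 : Nat.card C = 8 := by
    have hm := card_mul_index (C.subgroupOf ⊤)
    have h := Nat.card_congr (subgroupOfEquivOfLe (le_top : C ≤ ⊤)).toEquiv
    have h' : C.relIndex ⊤ = C.index := relIndex_top_right C
    have hnorm : C.Normal := by
      refine ⟨fun c hc g => ?_⟩
      obtain ⟨a, ha, b, hb, rfl⟩ : ∃ a ∈ A, ∃ b ∈ C, a * b = g := by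
        have hg : g ∈ A ⊔ C := hsup ▸ mem_top g
        rw [← SetLike.mem_coe, coe_mul_of_left_le_normalizer_right A C
          (fun a ha => centralizer_le_normalizer _ (mem_centralizer_iff.2 fun b hb => (hAC a ha b hb).symm))] at hg
        exact hg
      rw [show a * b * c * (a * b)⁻¹ = a * (b * c * b⁻¹) * a⁻¹ by group,
        hAC a ha _ (mul_mem (mul_mem hb hc) (inv_mem hb)), mul_inv_cancel_right]
      exact mul_mem (mul_mem hb hc) (inv_mem hb)
    haveI := hnorm
    have hrel : C.relIndex A = C.index := by rw [← relIndex_top_right C, ← hsup, relIndex_sup_right]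
    have hA' := card_mul_index (C.subgroupOf A)
    rw [← relIndex, hA8, hrel, ← inf_subgroupOf_right, inf_comm,
      Nat.card_congr (subgroupOfEquivOfLe inf_le_left).toEquiv, hinf, hcen, hZ] at hA'
    have := card_mul_index C
    rw [hP, show C.index = 4 by omega] at this
    omega
  -- distinctness of classes
  have hpA : ∀ a ∈ A, ∀ c ∈ C, p a = p c → a ∈ Z ∧ c ∈ Z := fun a ha c hc h => by
    have hm : c⁻¹ * a ∈ Z := (hp1 _).1 (by rw [map_mul, map_inv, h, inv_mul_cancel])
    have haC : a ∈ C := by simpa using mul_mem hc ((hcenC.trans inf_le_right) hm)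
    have haZ : a ∈ Z := hcen ▸ hinf ▸ (⟨ha, haC⟩ : a ∈ A ⊓ C)
    exact ⟨haZ, (hp1 c).1 (h ▸ (hp1 a).2 haZ)⟩
  obtain ⟨s, hsC, hsZ, hs2⟩ : ∃ s ∈ C, s ∉ Z ∧ s * s = 1 := by
    by_contra hno
    push Not at hno
    have hsz : ∀ s ∈ C, s ∉ Z → s * s = z := fun s hs hsZ =>
      (hZeq _ (hsq s)).resolve_left (hno s hs hsZ)
    obtain ⟨s, hsC, hsZ⟩ : ∃ s ∈ C, s ∉ Z := by
      by_contra h
      push Not at h
      have := Nat.le_of_dvd (by norm_num) (hZ ▸ card_dvd_of_le (h : C ≤ Z))
      omega
    obtain ⟨t, htC, hst⟩ : ∃ t ∈ C, s * t ≠ t * s := by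
      by_contra h
      push Not at h
      refine hsZ (hcen ▸ mem_center_iff.2 fun g => ?_)
      have hle : A ⊔ C ≤ centralizer {s} := sup_le
        (fun a ha => mem_centralizer_singleton_iff.2 (hAC a ha s hsC))
        (fun b hb => mem_centralizer_singleton_iff.2 (h b hb).symm)
      exact mem_centralizer_singleton_iff.1 (hle (hsup ▸ mem_top g))
    have htZ : t ∉ Z := fun h => hst (hZc t h s).symm
    let a : Fin 3 → P := ![u, v, u * v]
    let c : Fin 2 → P := ![s, t]
    have ha : ∀ i, a i ∈ A := fun i => by fin_cases i <;> [exact hUA; exact hVA; exact mul_mem hUA hVA]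
    have hc : ∀ j, c j ∈ C := fun j => by fin_cases j <;> [exact hsC; exact htC]
    have ha2 : ∀ i, a i * a i = z := fun i => by
      fin_cases i
      · exact hu
      · exact hv
      · show u * v * (u * v) = z
        rw [show u * v * (u * v) = u * (v * u) * v by group, hanti v u huv,
          show u * (z * (u * v)) * v = u * z * u * (v * v) by group, ← hzc u,
          show z * u * u * (v * v) = z * (u * u) * (v * v) by group, hu, hv, hz2, one_mul]
    have hcz : ∀ j, c j * c j = z := fun j => by fin_cases j <;> [exact hsz s hsC hsZ; exact hsz t htC htZ]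
    have hsix : 6 ≤ T1.ncard := by
      have hinj : Function.Injective fun x : Fin 3 × Fin 2 => p (a x.1 * c x.2) := by
        intro x y hxy
        simp only at hxy
        have hm : p ((a y.1)⁻¹ * a x.1) = p (c y.2 * (c x.2)⁻¹) := by
          rw [map_mul, map_mul, map_inv, map_inv]
          rw [map_mul, map_mul] at hxy
          calc (p (a y.1))⁻¹ * p (a x.1) = (p (a y.1))⁻¹ * (p (a x.1) * p (c x.2)) * (p (c x.2))⁻¹ := by group
            _ = _ := by rw [hxy]; group
        obtain ⟨h1, h2⟩ := hpA _ (mul_mem (inv_mem (ha _)) (ha _)) _ (mul_mem (hc _) (inv_mem (hc _))) hm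
        have e1 : p (a x.1) = p (a y.1) := by
          have := (hp1 _).2 h1
          rw [map_mul, map_inv, inv_mul_eq_one] at this
          exact this.symm
        have e2 : p (c x.2) = p (c y.2) := by
          have := (hp1 _).2 h2
          rw [map_mul, map_inv, mul_inv_eq_one] at this
          exact this.symm
        have huvp : p u ≠ p v := fun h => by
          have hm : u⁻¹ * v ∈ Z := (hp1 _).1 (by rw [map_mul, map_inv, h, inv_mul_cancel])
          refine huv ?_
          obtain ⟨m, hm', rfl⟩ : ∃ m ∈ Z, v = u * m := ⟨_, hm, by group⟩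
          rw [mul_assoc, hZc m hm' u]
        have hu1 : p u ≠ 1 := fun h => huv (hZc u ((hp1 u).1 h) v).symm
        have hv1 : p v ≠ 1 := fun h => huv (hZc v ((hp1 v).1 h) u)
        have hst' : p s ≠ p t := fun h => by
          have hm : s⁻¹ * t ∈ Z := (hp1 _).1 (by rw [map_mul, map_inv, h, inv_mul_cancel])
          refine hst ?_
          obtain ⟨m, hm', rfl⟩ : ∃ m ∈ Z, t = s * m := ⟨_, hm, by group⟩
          rw [mul_assoc, hZc m hm' s]
        refine Prod.ext ?_ ?_
        · obtain ⟨i, j⟩ := x; obtain ⟨k, l⟩ := y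
          simp only at e1 ⊢
          fin_cases i <;> fin_cases k <;> first
            | rfl
            | exact absurd e1 huvp
            | exact absurd e1.symm huvp
            | exact absurd (left_eq_mul.1 (e1.trans (map_mul p u v))) hv1
            | exact absurd (left_eq_mul.1 (e1.symm.trans (map_mul p u v))) hv1
            | exact absurd (right_eq_mul.1 (e1.trans (map_mul p u v))) hu1
            | exact absurd (right_eq_mul.1 (e1.symm.trans (map_mul p u v))) hu1
        · obtain ⟨i, j⟩ := x; obtain ⟨k, l⟩ := y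
          simp only at e2 ⊢
          fin_cases j <;> fin_cases l <;> first
            | rfl
            | exact absurd e2 hst'
            | exact absurd e2.symm hst'
      have h := Set.ncard_le_ncard_of_injOn (s := (Set.univ : Set (Fin 3 × Fin 2))) (t := T1)
        (fun x => p (a x.1 * c x.2)) (fun x _ => ⟨fun h => ?_, _, rfl, ?_⟩) hinj.injOn
      · rwa [Set.ncard_univ, Nat.card_eq_fintype_card] at h
      · rw [map_mul, mul_eq_one_iff_eq_inv, hWinv] at h
        have := (hpA _ (ha x.1) _ (hc x.2) h).2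
        have e := hcz x.2
        rw [hsqp (c x.2) 1 (by rw [(hp1 _).2 this, map_one]), one_mul] at e
        exact hz1 e.symm
      · rw [show a x.1 * c x.2 * (a x.1 * c x.2) = a x.1 * (c x.2 * a x.1) * c x.2 by group,
          ← hAC _ (ha x.1) _ (hc x.2), show a x.1 * (a x.1 * c x.2) * c x.2 = (a x.1 * a x.1) * (c x.2 * c x.2) by group,
          ha2, hcz, hz2]
    have hsixN : 6 ≤ N1.ncard := by
      let d : Fin 3 ⊕ Fin 3 → P := Sum.elim a ![s, t, s * t]
      have hd : ∀ x, d x * d x = z := by
        rintro (i | i)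
        · exact ha2 i
        · fin_cases i
          · exact hsz s hsC hsZ
          · exact hsz t htC htZ
          · exact hsz _ (mul_mem hsC htC) fun h => hst (by
              obtain ⟨m, hm', e⟩ : ∃ m ∈ Z, t = s⁻¹ * m := ⟨_, h, by show t = s⁻¹ * (s * t); group⟩
              rw [e, mul_inv_cancel_left, mul_assoc, hZc m hm' s, inv_mul_cancel_left])
      have hcl : ∀ x y : P, x * y ≠ y * x → p x ≠ p y ∧ p x ≠ p (x * y) ∧ p y ≠ p (x * y) := by
        intro x y hxy
        refine ⟨fun h => ?_, fun h => ?_, fun h => ?_⟩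
        · obtain ⟨m, hm', rfl⟩ : ∃ m ∈ Z, y = x * m :=
            ⟨x⁻¹ * y, (hp1 _).1 (by rw [map_mul, map_inv, h, inv_mul_cancel]), by group⟩
          exact hxy (by rw [mul_assoc, hZc m hm' x])
        · rw [map_mul, left_eq_mul, hp1] at h
          exact hxy (hZc y h x).symm
        · rw [map_mul, right_eq_mul, hp1] at h
          exact hxy (hZc x h y)
      obtain ⟨a1, a2, a3⟩ := hcl u v (Ne.symm huv)
      obtain ⟨b1, b2, b3⟩ := hcl s t hst
      have hnz : ∀ x, d x ∉ Z := fun x h => hN1one ⟨d x, (hp1 _).2 h, hd x⟩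
      have hinj : Function.Injective fun x => p (d x) := by
        intro x y hxy
        simp only at hxy
        rcases x with i | i <;> rcases y with j | j
        · fin_cases i <;> fin_cases j <;> first
            | rfl
            | exact absurd hxy a1
            | exact absurd hxy.symm a1
            | exact absurd hxy a2
            | exact absurd hxy.symm a2
            | exact absurd hxy a3
            | exact absurd hxy.symm a3
        · exact absurd ((hpA _ (ha i) _ (by fin_cases j <;> [exact hsC; exact htC; exact mul_mem hsC htC]) hxy).1)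
            (hnz (Sum.inl i))
        · exact absurd ((hpA _ (ha j) _ (by fin_cases i <;> [exact hsC; exact htC; exact mul_mem hsC htC]) hxy.symm).1)
            (hnz (Sum.inl j))
        · fin_cases i <;> fin_cases j <;> first
            | rfl
            | exact absurd hxy b1
            | exact absurd hxy.symm b1
            | exact absurd hxy b2
            | exact absurd hxy.symm b2
            | exact absurd hxy b3
            | exact absurd hxy.symm b3
      have h := Set.ncard_le_ncard_of_injOn (s := (Set.univ : Set (Fin 3 ⊕ Fin 3))) (t := N1)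
        (fun x => p (d x)) (fun x _ => ⟨_, rfl, hd x⟩) hinj.injOn
      rwa [Set.ncard_univ, Nat.card_eq_fintype_card] at h
    have hdisj : Disjoint N1 T1 := Set.disjoint_left.2 fun w ⟨x, hx, h1⟩ ⟨_, y, hy, h2⟩ =>
      hz1 (h1.symm.trans ((hsqp x y (hx.trans hy.symm)).trans h2))
    have hsum : N1.ncard + T1.ncard ≤ 15 := by
      rw [← Set.ncard_union_eq hdisj]
      refine (Set.ncard_le_ncard (t := ({1} : Set (P ⧸ Z))ᶜ) ?_).trans_eq ?_
      · rintro w (h | h) rfl
        · exact hN1one h
        · exact h.1 rfl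
      · rw [Set.ncard_compl, Set.ncard_singleton, hW]
    omega
  obtain ⟨t, htC, hst⟩ : ∃ t ∈ C, s * t ≠ t * s := by
    by_contra h
    push Not at h
    refine hsZ (hcen ▸ mem_center_iff.2 fun g => ?_)
    have hle : A ⊔ C ≤ centralizer {s} := sup_le
      (fun a ha => mem_centralizer_singleton_iff.2 (hAC a ha s hsC))
      (fun b hb => mem_centralizer_singleton_iff.2 (h b hb).symm)
    exact mem_centralizer_singleton_iff.1 (hle (hsup ▸ mem_top g))
  obtain ⟨r, hrC, hr2, hsr⟩ : ∃ r ∈ C, r * r = z ∧ s * r ≠ r * s := by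
    rcases hZeq _ (hsq t) with h | h
    · refine ⟨s * t, mul_mem hsC htC, ?_, fun e => hst ?_⟩
      · rw [show s * t * (s * t) = (s * t) * s * t by group, hanti s t hst,
          show z * (t * s) * s * t = z * t * (s * s) * t by group, hs2,
          show z * t * 1 * t = z * (t * t) by group, h, mul_one]
      · rw [← mul_assoc, hs2, one_mul] at e
        conv_lhs => rw [e, show s * (s * t * s) = s * s * (t * s) by group, hs2, one_mul]
    · exact ⟨t, htC, h, hst⟩
  have hB : Nonempty (↥(closure {r, s}) ≃* DihedralGroup 4) := by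
    rw [← hord r hr2]
    refine Cfsg.Lib.TwoGroup.equiv_dihedral hs2 ?_ ?_
    · rw [hanti s r hsr, eq_inv_iff_mul_eq_one, show z * (r * s) * s⁻¹ * r = z * (r * r) by group, hr2, hz2]
    · intro h
      obtain ⟨k, rfl⟩ := mem_zpowers_iff.1 h
      exact hsr (Commute.zpow_self r k).eq
  have hBC : closure {r, s} = C := by
    refine eq_of_le_of_card_ge ((closure_le _).2 ?_) ?_
    · rintro w (rfl | rfl)
      · exact hrC
      · exact hsC
    · obtain ⟨e⟩ := hB
      rw [hC8, Nat.card_congr e.toEquiv, Nat.card_eq_fintype_card, DihedralGroup.card]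
  exact ⟨A, C, hQ, hBC ▸ hB, hAC, hsup, hinf⟩

end Cfsg.Lib.Small.SecRankFour
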