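import Cfsg.Agent.Lib.Small.SecRankFour.Five.RankFive

/-!
# A central elementary layer under the alternating group of degree five
-/

set_option autoImplicit false

namespace Cfsg.Lib.Small.SecRankFour

open Subgroup

variable {K : Type*} [Group K] [Finite K]

/-- An element of order five lifting a given one of `A₅`. -/
theorem exists_lift_five {π : K →* A5} (hπ : Function.Surjective π) (hV : IsPGroup 2 π.ker) {g : A5}
    (hg : g ^ 5 = 1) : ∃ y : K, y ^ 5 = 1 ∧ π y = g := by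
  obtain ⟨y₀, rfl⟩ := hπ g
  obtain ⟨k, hk⟩ := hV ⟨y₀ ^ 5, MonoidHom.mem_ker.2 (by rw [map_pow, hg])⟩
  have hk' : (y₀ ^ 5) ^ 2 ^ k = 1 := congrArg Subtype.val hk
  refine ⟨y₀ ^ (16 ^ k), ?_, ?_⟩
  · rw [← pow_mul, mul_comm, pow_mul]
    obtain ⟨j, hj⟩ : 2 ^ k ∣ 16 ^ k := pow_dvd_pow_of_dvd (by norm_num) k
    rw [hj, pow_mul, hk', one_pow]
  · rw [map_pow]
    have h5 : (16 ^ k) % 5 = 1 := by rw [Nat.pow_mod]; norm_num
    rw [← Nat.div_add_mod (16 ^ k) 5, h5, pow_add, pow_mul, hg, one_pow, one_mul, pow_one]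

/-- The central elementary layer has order at most two. -/
theorem layer {π : K →* A5} (hπ : Function.Surjective π) (hV : IsPGroup 2 π.ker)
    {M : Subgroup K} (hM : M.Normal) (hMV : M ≤ π.ker)
    (hMc : ∀ m ∈ M, ∀ v ∈ π.ker, Commute m v) (hM2 : ∀ m ∈ M, m * m = 1)
    (hgen : M = closure {x | ∃ v ∈ π.ker, v * v = x})
    (hfaith : ∀ x : K, (∀ v ∈ π.ker, x * v * x⁻¹ * v⁻¹ ∈ M) → x ∈ π.ker)
    (h4 : Cfsg.SectionalPRankLE 2 4 K) :
    Nat.card M ≤ 2 ∧ Nat.card (π.ker.map (QuotientGroup.mk' M)) = 16 ∧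
      ∃ y : K, y ^ 5 = 1 ∧ (∀ v ∈ π.ker, y * v * y⁻¹ * v⁻¹ ∈ M → v ∈ M) ∧ ∀ m ∈ M, Commute y m := by
  classical
  haveI := hM
  set V := π.ker with hVdef
  haveI hVn : V.Normal := MonoidHom.normal_ker π
  have hsq : ∀ v ∈ V, v * v ∈ M := fun v hv => hgen ▸ subset_closure ⟨v, hv, rfl⟩
  let p := QuotientGroup.mk' M
  set WK := V.map p with hWK
  haveI hWn : WK.Normal := hVn.map p (QuotientGroup.mk'_surjective M)
  have hWsq : ∀ w : WK, w ^ 2 = 1 := by
    rintro ⟨_, u, hu, rfl⟩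
    refine Subtype.ext ?_
    show p u ^ 2 = 1
    rw [sq, ← map_mul]
    exact (QuotientGroup.eq_one_iff _).2 (hsq u hu)
  have hab : ∀ a b : WK, a * b = b * a := fun a b => by
    have hi : ∀ w : WK, w⁻¹ = w := fun w => inv_eq_of_mul_eq_one_left (by rw [← sq, hWsq])
    rw [← hi (a * b), mul_inv_rev, hi, hi]
  letI : CommGroup WK := { (inferInstance : Group WK) with mul_comm := hab }
  letI : CommGroup M := { (inferInstance : Group M) with
    mul_comm := fun a b => Subtype.ext (hMc a.1 a.2 b.1 (hMV b.2)).eq }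
  let ψ : K →* MulAut WK := (MulAut.conjNormal : K ⧸ M →* MulAut WK).comp p
  have hψker : ψ.ker = V := by
    refine le_antisymm (fun x hx => hfaith x fun v hv => ?_) fun x hx =>
      MonoidHom.mem_ker.2 (MulEquiv.ext fun w => Subtype.ext ?_)
    · have h : p x * p v * (p x)⁻¹ = p v :=
        congrArg (fun a : MulAut WK => ((a ⟨p v, v, hv, rfl⟩ : WK) : K ⧸ M)) (MonoidHom.mem_ker.1 hx)
      refine (QuotientGroup.eq_one_iff _).1 ?_
      show p (x * v * x⁻¹ * v⁻¹) = 1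
      rw [map_mul, map_mul, map_mul, map_inv, map_inv, h, mul_inv_cancel]
    · show p x * (w : K ⧸ M) * (p x)⁻¹ = (w : K ⧸ M)
      rw [mul_inv_eq_iff_eq_mul]
      exact congrArg Subtype.val (hab ⟨p x, x, hx, rfl⟩ w)
  obtain ⟨g, s, hg5, hg1, hs2, hs1, hsg⟩ := exists_five_pair
  obtain ⟨y, hy, hyg⟩ := exists_lift_five hπ hV hg5
  have hyV : y ∉ V := fun h => hg1 (hyg ▸ MonoidHom.mem_ker.1 h)
  let ρ : A5 →* MulAut WK := π.liftOfSurjective hπ ⟨ψ, hψker.ge⟩
  have hρπ : ∀ x, ρ (π x) = ψ x := fun x => by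
    simpa [ρ] using MonoidHom.liftOfRightInverse_comp_apply π _ (Function.rightInverse_surjInv hπ) ⟨ψ, hψker.ge⟩ x
  have hρ : Function.Injective ρ := (injective_iff_map_eq_one ρ).2 fun a ha => by
    obtain ⟨x, rfl⟩ := hπ a
    rw [hρπ] at ha
    exact MonoidHom.mem_ker.1 (hψker.le (MonoidHom.mem_ker.2 ha))
  have hle : Nat.card WK ≤ 16 := by
    let N := M.subgroupOf V
    have hcomm : ∀ a b : ↥V ⧸ N, a * b = b * a := by
      intro a b
      obtain ⟨a, rfl⟩ := QuotientGroup.mk'_surjective N a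
      obtain ⟨b, rfl⟩ := QuotientGroup.mk'_surjective N b
      rw [← mul_inv_eq_one, ← map_mul, ← map_mul, ← map_inv, ← map_mul]
      refine (QuotientGroup.eq_one_iff _).2 (mem_subgroupOf.2 ((QuotientGroup.eq_one_iff _).1 ?_))
      show p ((a : K) * b * ((b : K) * a)⁻¹) = 1
      have h := congrArg Subtype.val (hab ⟨p a.1, a.1, a.2, rfl⟩ ⟨p b.1, b.1, b.2, rfl⟩)
      change p a.1 * p b.1 = p b.1 * p a.1 at h
      rw [map_mul, map_inv, map_mul, map_mul, h, mul_inv_cancel]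
    have hb := h4 V N ⊤ ⟨⟨fun a b => Subtype.ext (hcomm _ _)⟩⟩ fun a _ => by
      obtain ⟨a, rfl⟩ := QuotientGroup.mk'_surjective N a
      rw [← map_pow]
      refine (QuotientGroup.eq_one_iff _).2 (mem_subgroupOf.2 ?_)
      show ((a : K)) ^ 2 ∈ M
      rw [sq]; exact hsq _ a.2
    rw [card_top] at hb
    calc Nat.card WK = M.relIndex V := by rw [hWK, ← relIndex_ker (K := V) p, QuotientGroup.ker_mk']
      _ = Nat.card (↥V ⧸ N) := rfl
      _ ≤ 16 := hb
  have hd16 : Nat.card WK ∣ 16 := by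
    obtain ⟨n, hn⟩ := (IsPGroup.iff_card (p := 2) (G := WK)).1 fun w => ⟨1, by rw [pow_one]; exact hWsq w⟩
    rw [hn] at hle ⊢
    exact pow_dvd_pow 2 ((Nat.pow_le_pow_iff_right (le_refl 2)).1 (hle.trans (by norm_num : 16 ≤ 2 ^ 4)))
  have hψy : ψ y ≠ 1 := fun h => hyV (hψker.le (MonoidHom.mem_ker.2 h))
  obtain ⟨hW16, hbW⟩ := five_fixed hd16 (b := ψ y) (by rw [← map_pow, hy, map_one]) hψy
  have hfW : ∀ v ∈ V, y * v * y⁻¹ * v⁻¹ ∈ M → v ∈ M := fun v hv h => by
    have h1 : (⟨p v, v, hv, rfl⟩ : WK) ∈ fixed (ψ y) := mem_fixed.2 (Subtype.ext (by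
      show p y * p v * (p y)⁻¹ = p v
      have h' : p (y * v * y⁻¹ * v⁻¹) = 1 := (QuotientGroup.eq_one_iff _).2 h
      rw [map_mul, map_mul, map_mul, map_inv, map_inv, mul_inv_eq_one] at h'
      exact h'))
    rw [hbW, mem_bot] at h1
    exact (QuotientGroup.eq_one_iff v).1 (congrArg Subtype.val h1)
  -- the action on the layer
  let φ : K →* MulAut M := MulAut.conjNormal
  have hVφ : V ≤ φ.ker := fun v hv => MonoidHom.mem_ker.2 (MulEquiv.ext fun m => Subtype.ext (by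
    rw [conj_val hM, MulAut.one_apply, ← (hMc m.1 m.2 v hv).eq, mul_inv_cancel_right]))
  have hM2' : ∀ w : M, w ^ 2 = 1 := fun w => Subtype.ext (by
    rw [SubmonoidClass.coe_pow, sq]; exact hM2 _ w.2)
  have hMd : Nat.card M ∣ 16 := by
    obtain ⟨n, hn⟩ := (IsPGroup.iff_card (p := 2) (G := M)).1 fun w => ⟨1, by rw [pow_one]; exact hM2' w⟩
    let e : ↥M ⧸ (⊥ : Subgroup ↥M) ≃* ↥M := QuotientGroup.quotientBot
    have h := h4 M ⊥ ⊤ ⟨⟨fun a b => Subtype.ext (e.injective (by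
      rw [Subgroup.coe_mul, Subgroup.coe_mul, map_mul, map_mul, mul_comm]))⟩⟩
      (fun a _ => e.injective (by rw [map_pow, hM2', map_one]))
    rw [card_top, Nat.card_congr e.toEquiv, hn] at h
    rw [hn]
    exact pow_dvd_pow 2 ((Nat.pow_le_pow_iff_right (le_refl 2)).1 (h.trans (by norm_num : 2 ^ 4 ≤ 2 ^ 4)))
  by_cases hφy : φ y = 1
  swap
  · exfalso
    obtain ⟨hM16, hbM⟩ := five_fixed hMd (b := φ y) (by rw [← map_pow, hy, map_one]) hφy
    have hfM : ∀ m ∈ M, Commute y m → m = 1 := fun m hm hc => by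
      have h1 : (⟨m, hm⟩ : M) ∈ fixed (φ y) := mem_fixed.2 (Subtype.ext (by
        rw [conj_val hM, hc.eq, mul_inv_cancel_right]))
      rw [hbM, mem_bot] at h1
      exact congrArg Subtype.val h1
    have hfix : ∀ v ∈ V, Commute y v → v = 1 := fun v hv hc =>
      hfM v (hfW v hv (by rw [hc.eq, mul_inv_cancel_right, mul_inv_cancel]; exact M.one_mem)) hc
    obtain ⟨t, ht⟩ := hπ s
    obtain ⟨v, hv, hev⟩ := exists_inverter hVn hfix (y := y) (t := t) (MonoidHom.mem_ker.2 (by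
      rw [map_mul, map_mul, map_mul, map_inv, ht, hyg, hsg, inv_mul_cancel]))
    have hπe : π (v * t) = s := by rw [map_mul, show π v = 1 from MonoidHom.mem_ker.1 hv, one_mul, ht]
    have hee : v * t * (v * t) = 1 := by
      refine hfix _ (MonoidHom.mem_ker.2 (by rw [map_mul, hπe, hs2])) ?_
      have h2 : v * t * (v * t) * y * (v * t * (v * t))⁻¹ = y := by
        rw [show v * t * (v * t) * y * (v * t * (v * t))⁻¹ = v * t * (v * t * y * (v * t)⁻¹) * (v * t)⁻¹ by group,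
          hev, show v * t * y⁻¹ * (v * t)⁻¹ = (v * t * y * (v * t)⁻¹)⁻¹ by group, hev, inv_inv]
      rw [mul_inv_eq_iff_eq_mul] at h2
      exact h2.symm
    exact not_rank_four_fpf hVn hM hMV hMc hM2 hsq hM16 hW16 hy hee
      (fun h => hs1 (hπe ▸ MonoidHom.mem_ker.1 h)) hev hfM hfW h4
  -- the layer is central
  have hcent : ∀ (k : K) (m : K), m ∈ M → k * m * k⁻¹ = m := by
    haveI : IsSimpleGroup A5 := alternatingGroup.isSimpleGroup (by simp)
    haveI hn : (φ.ker.map π).Normal := (MonoidHom.normal_ker φ).map π hπ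
    have htop : φ.ker.map π = ⊤ := hn.eq_bot_or_eq_top.resolve_left fun h => hg1 (by
      have : π y ∈ φ.ker.map π := mem_map_of_mem π (MonoidHom.mem_ker.2 hφy)
      rwa [h, mem_bot, hyg] at this)
    intro k m hm
    obtain ⟨x, hx, hxk⟩ : π k ∈ φ.ker.map π := htop ▸ mem_top _
    have hk : k ∈ φ.ker := by
      have h : x⁻¹ * k ∈ V := MonoidHom.mem_ker.2 (by rw [map_mul, map_inv, hxk, inv_mul_cancel])
      simpa using mul_mem hx (hVφ h)
    have h := congrArg (fun a : MulAut M => ((a ⟨m, hm⟩ : M) : K)) (MonoidHom.mem_ker.1 hk)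
    simpa only [φ, MulAut.conjNormal_apply, MulAut.one_apply] using h
  refine ⟨?_, hW16, y, hy, hfW, fun m hm => mul_inv_eq_iff_eq_mul.1 (hcent y m hm)⟩
  obtain ⟨w₁, w₂, horb⟩ := two_orbits hW16 ρ hρ
  obtain ⟨_, v₁, hv₁, rfl⟩ := w₁
  obtain ⟨_, v₂, hv₂, rfl⟩ := w₂
  set a := v₁ * v₁ with ha
  set b := v₂ * v₂ with hb
  have haM : a ∈ M := hsq _ hv₁
  have hbM : b ∈ M := hsq _ hv₂
  have hmsq : ∀ v ∈ V, ∀ m ∈ M, v * m * (v * m) = v * v := fun v hv m hm => by
    rw [show v * m * (v * m) = v * (m * v) * m by group, (hMc m hm v hv).eq,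
      show v * (v * m) * m = v * v * (m * m) by group, hM2 m hm, mul_one]
  have hsame : ∀ v ∈ V, v ∉ M → v * v = a ∨ v * v = b := by
    intro v hv hvM
    obtain ⟨c, hc⟩ := horb ⟨p v, v, hv, rfl⟩ (fun h => hvM ((QuotientGroup.eq_one_iff v).1 (congrArg Subtype.val h)))
    obtain ⟨k, rfl⟩ := hπ c
    simp only [hρπ] at hc
    have key : ∀ u ∈ V, p k * p u * (p k)⁻¹ = p v → v * v = u * u := fun u hu h => by
      have hm : (k * u * k⁻¹)⁻¹ * v ∈ M := (QuotientGroup.eq_one_iff _).1 (by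
        show p ((k * u * k⁻¹)⁻¹ * v) = 1
        rw [map_mul, map_inv, map_mul, map_mul, map_inv, h, inv_mul_cancel])
      have h2 := hmsq _ (hVn.conj_mem u hu k) _ hm
      rw [mul_inv_cancel_left] at h2
      rw [h2, show k * u * k⁻¹ * (k * u * k⁻¹) = k * (u * u) * k⁻¹ by group, hcent k _ (hsq u hu)]
    rcases hc with hc | hc
    · exact Or.inl (key v₁ hv₁ (congrArg Subtype.val hc))
    · exact Or.inr (key v₂ hv₂ (congrArg Subtype.val hc))
  set R := zpowers (a * b) with hR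
  have hbR : ∀ x ∈ M, Commute (a * b) x := fun x hx => hMc _ (mul_mem haM hbM) x (hMV hx)
  have hab2 : a * b * (a * b) = 1 := hM2 _ (mul_mem haM hbM)
  have hcase : ∀ v ∈ V, v ∉ M → a * (v * v) ∈ R := fun v hv hvM => by
    rcases hsame v hv hvM with h | h <;> rw [h]
    · rw [hM2 a haM]; exact one_mem _
    · exact mem_zpowers _
  -- commutators
  have hcommM : ∀ u ∈ V, ∀ v ∈ V, v * u * v⁻¹ * u⁻¹ ∈ M := fun u hu v hv => by
    refine (QuotientGroup.eq_one_iff _).1 ?_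
    show p (v * u * v⁻¹ * u⁻¹) = 1
    have h := congrArg Subtype.val (hab ⟨p v, v, hv, rfl⟩ ⟨p u, u, hu, rfl⟩)
    change p v * p u = p u * p v at h
    rw [map_mul, map_mul, map_mul, map_inv, map_inv, h]; group
  have hpair : ∀ u ∈ V, ∀ v ∈ V, u ∉ M → v ∉ M → u * v ∉ M → a * (v * u * v⁻¹ * u⁻¹) ∈ R := by
    intro u hu v hv huM hvM huvM
    set c := v * u * v⁻¹ * u⁻¹ with hc
    have hcM : c ∈ M := hcommM u hu v hv
    have he : u * v * (u * v) = c * (u * u) * (v * v) := by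
      rw [show u * v * (u * v) = u * (c * (u * v)) * v by rw [hc]; group,
        ← mul_assoc u c, ← (hMc c hcM u hu).eq]
      group
    have h : c = (u * v * (u * v)) * (v * v) * (u * u) := by
      rw [he, show c * (u * u) * (v * v) * (v * v) * (u * u) = c * (u * u) * ((v * v) * (v * v)) * (u * u) by group,
        hM2 _ (hsq v hv), mul_one, mul_assoc, hM2 _ (hsq u hu), mul_one]
    have e : a * c = a * (u * v * (u * v)) * (a * (v * v)) * (a * (u * u)) := by
      rw [h]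
      have hca : ∀ x ∈ M, a * x = x * a := fun x hx => (hMc a haM x (hMV hx)).eq
      rw [show a * (u * v * (u * v)) * (a * (v * v)) * (a * (u * u)) =
        a * (u * v * (u * v)) * (a * ((v * v) * a)) * (u * u) by group, ← hca _ (hsq v hv),
        ← mul_assoc a a, hM2 a haM, one_mul]
      group
    rw [e]
    exact mul_mem (mul_mem (hcase _ (mul_mem hu hv) huvM) (hcase v hv hvM)) (hcase u hu huM)
  have haR : a ∈ R := by
    have hpick : ∀ l : Finset WK, l.card ≤ 4 → ∃ v ∈ V, ∀ w ∈ l, p v ≠ (w : K ⧸ M) := fun l hl => by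
      obtain ⟨w, hw⟩ : ∃ w : WK, w ∉ l := by
        letI : Fintype WK := Fintype.ofFinite _
        by_contra hno
        push Not at hno
        have : (Finset.univ : Finset WK).card ≤ 4 := (Finset.card_le_card fun x _ => hno x).trans hl
        rw [Finset.card_univ, ← Nat.card_eq_fintype_card, hW16] at this
        omega
      obtain ⟨_, v, hv, rfl⟩ := w
      exact ⟨v, hv, fun x hx e => hw ((Subtype.ext e : (⟨p v, v, hv, rfl⟩ : WK) = x) ▸ hx)⟩
    obtain ⟨u, hu, hul⟩ := hpick {1} (by simp)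
    obtain ⟨v, hv, hvl⟩ := hpick {1, ⟨p u, u, hu, rfl⟩} ((Finset.card_le_two).trans (by norm_num))
    obtain ⟨w, hw, hwl⟩ := hpick {1, ⟨p u, u, hu, rfl⟩, ⟨p v, v, hv, rfl⟩, ⟨p (u * v), u * v, mul_mem hu hv, rfl⟩}
      Finset.card_le_four
    simp only [Finset.mem_insert, Finset.mem_singleton, forall_eq_or_imp, forall_eq, OneMemClass.coe_one] at hul hvl hwl
    have hM1 : ∀ x, x ∈ M ↔ p x = 1 := fun x => (QuotientGroup.eq_one_iff x).symm
    have hi : ∀ x ∈ V, (p x)⁻¹ = p x := fun x hx =>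
      inv_eq_of_mul_eq_one_left (by rw [← map_mul]; exact (hM1 _).1 (hsq x hx))
    have hne : ∀ x ∈ V, ∀ z, p x ≠ p z → x * z ∉ M := fun x hx z h hm => h (by
      rw [hM1, map_mul, mul_eq_one_iff_inv_eq, hi x hx] at hm; exact hm)
    have huM : u ∉ M := fun h => hul ((hM1 u).1 h)
    have hvM : v ∉ M := fun h => hvl.1 ((hM1 v).1 h)
    have hwM : w ∉ M := fun h => hwl.1 ((hM1 w).1 h)
    have hvwM : v * w ∉ M := hne v hv w (Ne.symm hwl.2.2.1)
    have huvM : u * v ∉ M := hne u hu v (Ne.symm hvl.2)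
    have huwM : u * w ∉ M := hne u hu w (Ne.symm hwl.2.1)
    have huvwM : u * (v * w) ∉ M := fun h => hne (u * v) (mul_mem hu hv) w (Ne.symm hwl.2.2.2) (by
      rwa [mul_assoc])
    have h1 := hpair u hu v hv huM hvM huvM
    have h2 := hpair u hu w hw huM hwM huwM
    have h3 := hpair u hu (v * w) (mul_mem hv hw) huM hvwM huvwM
    have e : v * w * u * (v * w)⁻¹ * u⁻¹ = (w * u * w⁻¹ * u⁻¹) * (v * u * v⁻¹ * u⁻¹) := by
      rw [show v * w * u * (v * w)⁻¹ * u⁻¹ = v * (w * u * w⁻¹ * u⁻¹) * v⁻¹ * (v * u * v⁻¹ * u⁻¹) by group,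
        ← (hMc _ (hcommM u hu w hw) v hv).eq, mul_inv_cancel_right]
    rw [e] at h3
    have e2 : (a * (w * u * w⁻¹ * u⁻¹)) * (a * (v * u * v⁻¹ * u⁻¹)) =
        (w * u * w⁻¹ * u⁻¹) * (v * u * v⁻¹ * u⁻¹) := by
      rw [(hMc a haM _ (hMV (hcommM u hu w hw))).eq, mul_assoc, ← mul_assoc a a, hM2 a haM, one_mul]
    have h4' := mul_mem h2 h1
    rw [e2] at h4'
    have h5 := mul_mem h3 (inv_mem h4')
    rwa [mul_inv_cancel_right] at h5
  have hbR' : b ∈ R := by simpa [← mul_assoc] using mul_mem (inv_mem haR) (mem_zpowers (a * b))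
  have hMR : M ≤ R := by
    rw [hgen, closure_le]
    rintro _ ⟨v, hv, rfl⟩
    by_cases hvM : v ∈ M
    · rw [hM2 v hvM]; exact R.one_mem
    rcases hsame v hv hvM with h | h <;> rw [h]
    · exact haR
    · exact hbR'
  refine (Nat.le_of_dvd Nat.card_pos (card_dvd_of_le hMR)).trans ?_
  rw [hR, Nat.card_zpowers]
  exact Nat.le_of_dvd two_pos (orderOf_dvd_of_pow_eq_one (by rw [sq, hab2]))

end Cfsg.Lib.Small.SecRankFour
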