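import Cfsg.Agent.Lib.Small.SecRankFour.Five.Extra
import Cfsg.Agent.Lib.Small.SecRankFour.Main
import Cfsg.Agent.Lib.PGroup.Basic

/-!
# The two-core under a subgroup isomorphic to the alternating group of degree five
-/

set_option autoImplicit false

namespace Cfsg.Lib.Small.SecRankFour

open Subgroup

variable {K : Type*} [Group K] [Finite K]

/-- The next term of the exponent-two central series. -/
def nextLayer (V L : Subgroup K) : Subgroup K :=
  closure ({x | ∃ m ∈ L, m * m = x} ∪ {x | ∃ m ∈ L, ∃ v ∈ V, m * v * m⁻¹ * v⁻¹ = x})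

theorem nextLayer_normal {V L : Subgroup K} (hV : V.Normal) (hL : L.Normal) : (nextLayer V L).Normal := by
  haveI := hV
  haveI := hL
  refine ⟨fun x hx g => ?_⟩
  induction hx using closure_induction with
  | mem x hx =>
    refine subset_closure ?_
    rcases hx with ⟨m, hm, rfl⟩ | ⟨m, hm, v, hv, rfl⟩
    · exact Or.inl ⟨g * m * g⁻¹, hL.conj_mem m hm g, by group⟩
    · exact Or.inr ⟨g * m * g⁻¹, hL.conj_mem m hm g, g * v * g⁻¹, hV.conj_mem v hv g, by group⟩
  | one => simp
  | mul x y _ _ hx hy =>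
    rw [show g * (x * y) * g⁻¹ = g * x * g⁻¹ * (g * y * g⁻¹) by group]; exact mul_mem hx hy
  | inv x _ hx => rw [show g * x⁻¹ * g⁻¹ = (g * x * g⁻¹)⁻¹ by group]; exact inv_mem hx

theorem nextLayer_le {V L : Subgroup K} (hL : L.Normal) : nextLayer V L ≤ L := by
  refine (closure_le _).2 ?_
  rintro x (⟨m, hm, rfl⟩ | ⟨m, hm, v, hv, rfl⟩)
  · exact mul_mem hm hm
  · rw [show m * v * m⁻¹ * v⁻¹ = m * (v * m⁻¹ * v⁻¹) by group]
    exact mul_mem hm (hL.conj_mem _ (inv_mem hm) v)

theorem nextLayer_lt {V L : Subgroup K} (hV : IsPGroup 2 V) (hLn : L.Normal) (hLV : L ≤ V)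
    (hne : L ≠ ⊥) : nextLayer V L ≠ L := by
  classical
  haveI : Fact (Nat.Prime 2) := ⟨Nat.prime_two⟩
  haveI := hLn
  intro heq
  set L' := L.subgroupOf V with hL'
  haveI : L'.Normal := inferInstance
  have hL'0 : L' ≠ ⊥ := fun h => by
    rw [hL', subgroupOf_eq_bot] at h
    exact hne (eq_bot_iff.2 fun x hx => h.le_bot ⟨hx, hLV hx⟩)
  obtain ⟨N1, hN1, hmax⟩ := (Set.toFinite {N : Subgroup V | N.Normal ∧ N < L'}).exists_maximal
    ⟨⊥, inferInstance, bot_lt_iff_ne_bot.2 hL'0⟩
  obtain ⟨hN1n, hN1lt⟩ := hN1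
  haveI := hN1n
  let q := QuotientGroup.mk' N1
  haveI : (L'.map q).Normal := Normal.map inferInstance q (QuotientGroup.mk'_surjective N1)
  have hq0 : L'.map q ≠ ⊥ := fun h => by
    rw [Subgroup.map_eq_bot_iff, QuotientGroup.ker_mk'] at h
    exact hN1lt.not_ge h
  -- a normal subgroup inside the image is trivial or everything
  have hmin : ∀ Z : Subgroup (V ⧸ N1), Z.Normal → Z ≤ L'.map q → Z ≠ ⊥ → Z = L'.map q := by
    intro Z hZ hle hZ0
    by_contra hne'
    haveI := hZ
    have h1 : Z.comap q ≤ L' := by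
      refine (comap_mono hle).trans ?_
      rw [comap_map_eq, QuotientGroup.ker_mk', sup_eq_left.2 hN1lt.le]
    have h2 : Z.comap q < L' := lt_of_le_of_ne h1 fun e => hne' (by
      rw [← e, map_comap_eq_self_of_surjective (QuotientGroup.mk'_surjective N1)])
    have h3 : N1 ≤ Z.comap q := fun x hx => by
      rw [mem_comap, show q x = 1 from (QuotientGroup.eq_one_iff x).2 hx]; exact Z.one_mem
    refine hZ0 (eq_bot_iff.2 fun z hz => ?_)
    obtain ⟨x, rfl⟩ := QuotientGroup.mk'_surjective N1 z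
    exact mem_bot.2 ((QuotientGroup.eq_one_iff x).2 (hmax ⟨inferInstance, h2⟩ h3 hz))
  have hpV : IsPGroup 2 (V ⧸ N1) := hV.to_quotient N1
  have hcen : L'.map q ≤ center (V ⧸ N1) := by
    have h := hmin (L'.map q ⊓ center _) inferInstance inf_le_left (Cfsg.Lib.PGroup.inf_center_ne_bot hpV hq0)
    exact h ▸ inf_le_right
  have hsq : ∀ x ∈ L'.map q, x * x = 1 := by
    obtain ⟨z, hz⟩ := exists_prime_orderOf_dvd_card' (G := ↥(L'.map q)) 2 (by
      obtain ⟨j, hj⟩ := (hpV.to_subgroup (L'.map q)).exists_card_eq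
      have := (L'.map q).one_lt_card_iff_ne_bot.2 hq0
      rcases j with _ | j
      · rw [hj] at this; simp at this
      · rw [hj]; exact dvd_pow_self 2 j.succ_ne_zero)
    have hzn : (zpowers (z : V ⧸ N1)).Normal :=
      ⟨fun a ha g => by
        rw [mem_center_iff.1 (hcen ((zpowers_le.2 z.2) ha)) g, mul_inv_cancel_right]; exact ha⟩
    have h := hmin _ hzn (zpowers_le.2 z.2) (by
      rw [Ne, zpowers_eq_bot, OneMemClass.coe_eq_one]; intro e; rw [e, orderOf_one] at hz; omega)
    intro x hx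
    rw [← h] at hx
    obtain ⟨k, rfl⟩ := mem_zpowers_iff.1 hx
    have hz2 : (z : V ⧸ N1) ^ (2 : ℕ) = 1 := by rw [← hz, ← Subgroup.orderOf_coe]; exact pow_orderOf_eq_one _
    rw [← zpow_add, ← two_mul, zpow_mul, show ((2 : ℤ)) = ((2 : ℕ) : ℤ) from rfl, zpow_natCast, hz2, one_zpow]
  have hle : L ≤ N1.map V.subtype := by
    refine le_trans (le_of_eq heq.symm) ((closure_le _).2 ?_)
    rintro x (⟨m, hm, rfl⟩ | ⟨m, hm, v, hv, rfl⟩)
    · refine ⟨⟨m, hLV hm⟩ * ⟨m, hLV hm⟩, (QuotientGroup.eq_one_iff _).1 ?_, rfl⟩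
      exact hsq _ (mem_map_of_mem q (mem_subgroupOf.2 hm))
    · refine ⟨⟨m, hLV hm⟩ * ⟨v, hv⟩ * (⟨m, hLV hm⟩ : V)⁻¹ * (⟨v, hv⟩ : V)⁻¹, (QuotientGroup.eq_one_iff _).1 ?_, rfl⟩
      show q (⟨m, hLV hm⟩ * ⟨v, hv⟩ * (⟨m, hLV hm⟩ : V)⁻¹ * (⟨v, hv⟩ : V)⁻¹) = 1
      have hc := mem_center_iff.1 (hcen (mem_map_of_mem q (show (⟨m, hLV hm⟩ : V) ∈ L' from mem_subgroupOf.2 hm)))
        (q ⟨v, hv⟩)
      rw [map_mul, map_mul, map_mul, map_inv, map_inv, ← hc]; group
  refine hN1lt.not_ge fun x hx => ?_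
  obtain ⟨w, hw, e⟩ := hle (mem_subgroupOf.1 hx)
  rwa [← Subtype.ext (show w.1 = x.1 from e)]

/-- Transfer of the hypotheses of `layer` to a quotient. -/
theorem layer_quotient {π : K →* A5} (hπ : Function.Surjective π) (hV : IsPGroup 2 π.ker)
    {L N : Subgroup K} (hL : L.Normal) (hN : N.Normal) (hNL : N ≤ L) (hLV : L ≤ π.ker)
    (hgen : L = closure {x | ∃ v ∈ π.ker, v * v = x})
    (hc : ∀ m ∈ L, ∀ v ∈ π.ker, m * v * m⁻¹ * v⁻¹ ∈ N) (h2 : ∀ m ∈ L, m * m ∈ N)
    (hfaith : ∀ x : K, (∀ v ∈ π.ker, x * v * x⁻¹ * v⁻¹ ∈ L) → x ∈ π.ker)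
    (h4 : Cfsg.SectionalPRankLE 2 4 K) :
    N.relIndex L ≤ 2 ∧ Nat.card (π.ker.map (QuotientGroup.mk' L)) = 16 ∧
      ∃ y : K, y ^ 5 = 1 ∧ (∀ v ∈ π.ker, y * v * y⁻¹ * v⁻¹ ∈ L → v ∈ L) ∧
        ∀ m ∈ L, y * m * y⁻¹ * m⁻¹ ∈ N := by
  classical
  haveI := hN
  haveI := hL
  let p := QuotientGroup.mk' N
  have hker : N ≤ π.ker := hNL.trans hLV
  let π' : K ⧸ N →* A5 := QuotientGroup.lift N π hker
  have hπ'p : ∀ x, π' (p x) = π x := fun x => rfl
  have hπ' : Function.Surjective π' := fun a => by obtain ⟨x, rfl⟩ := hπ a; exact ⟨p x, rfl⟩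
  have hVker : π'.ker = π.ker.map p := QuotientGroup.ker_lift _ _ _
  have hmem : ∀ x, p x ∈ L.map p ↔ x ∈ L := fun x => by
    rw [← mem_comap, comap_map_eq, QuotientGroup.ker_mk', sup_eq_left.2 hNL]
  haveI hLn : (L.map p).Normal := hL.map p (QuotientGroup.mk'_surjective N)
  have hres := layer hπ' (hVker ▸ hV.map p) (M := L.map p) hLn (hVker ▸ map_mono hLV)
    (by
      rintro _ ⟨m, hm, rfl⟩ w hw
      obtain ⟨v, hv, rfl⟩ := hVker ▸ hw
      show p m * p v = p v * p m
      rw [← mul_inv_eq_one, mul_inv_rev, ← mul_assoc, ← map_inv, ← map_inv, ← map_mul, ← map_mul, ← map_mul]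
      exact (QuotientGroup.eq_one_iff _).2 (hc m hm v hv))
    (by
      rintro _ ⟨m, hm, rfl⟩
      rw [← map_mul]; exact (QuotientGroup.eq_one_iff _).2 (h2 m hm))
    (by
      conv_lhs => rw [hgen, MonoidHom.map_closure]
      congr 1
      ext x
      constructor
      · rintro ⟨_, ⟨v, hv, rfl⟩, rfl⟩
        exact ⟨p v, hVker ▸ mem_map_of_mem p hv, (map_mul p v v).symm⟩
      · rintro ⟨w, hw, rfl⟩
        obtain ⟨v, hv, rfl⟩ := hVker ▸ hw
        exact ⟨v * v, ⟨v, hv, rfl⟩, map_mul p v v⟩)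
    (fun x hx => by
      obtain ⟨x, rfl⟩ := QuotientGroup.mk'_surjective N x
      refine MonoidHom.mem_ker.2 (MonoidHom.mem_ker.1 (hfaith x fun v hv => (hmem _).1 ?_))
      rw [map_mul, map_mul, map_mul, map_inv, map_inv]
      exact hx (p v) (hVker ▸ mem_map_of_mem p hv))
    (sectional_bound h4 p (QuotientGroup.mk'_surjective N))
  obtain ⟨hle, hW, y, hy, hyW, hyM⟩ := hres
  obtain ⟨y₀, hy₀, hy₀y⟩ : ∃ y₀ : K, y₀ ^ 5 = 1 ∧ p y₀ = y := by
    obtain ⟨y₁, rfl⟩ := QuotientGroup.mk'_surjective N y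
    obtain ⟨k, hk⟩ := (hV.to_le hker) ⟨y₁ ^ 5, (QuotientGroup.eq_one_iff _).1 ((map_pow p y₁ 5).trans hy)⟩
    have hk' : (y₁ ^ 5) ^ 2 ^ k = 1 := congrArg Subtype.val hk
    refine ⟨y₁ ^ (16 ^ k), ?_, ?_⟩
    · rw [← pow_mul, mul_comm, pow_mul]
      obtain ⟨j, hj⟩ : 2 ^ k ∣ 16 ^ k := pow_dvd_pow_of_dvd (by norm_num) k
      rw [hj, pow_mul, hk', one_pow]
    · rw [map_pow]
      have h5 : (16 ^ k) % 5 = 1 := by rw [Nat.pow_mod]; norm_num
      rw [← Nat.div_add_mod (16 ^ k) 5, h5, pow_add, pow_mul, hy, one_pow, one_mul, pow_one]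
  refine ⟨?_, ?_, y₀, hy₀, fun v hv h => (hmem v).1 (hyW _ (hVker ▸ mem_map_of_mem p hv) ?_),
    fun m hm => (QuotientGroup.eq_one_iff _).1 ?_⟩
  · rwa [← QuotientGroup.ker_mk' N, relIndex_ker (K := L) (QuotientGroup.mk' N)]
  · rw [← hW, hVker, ← relIndex_ker (K := π.ker) (QuotientGroup.mk' L), ← relIndex_ker (K := π.ker.map p) (QuotientGroup.mk' (L.map p)),
      QuotientGroup.ker_mk', QuotientGroup.ker_mk', relIndex_map_map, QuotientGroup.ker_mk', sup_eq_left.2 hNL,
      sup_eq_left.2 hker]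
  · rw [← hy₀y, ← map_inv, ← map_inv, ← map_mul, ← map_mul, ← map_mul]
    exact (hmem _).2 h
  · show p (y₀ * m * y₀⁻¹ * m⁻¹) = 1
    rw [map_mul, map_mul, map_mul, map_inv, map_inv, hy₀y, (hyM _ (mem_map_of_mem p hm)).eq]
    group

/-- The two possibilities for the two-group. -/
theorem five_radical {π : K →* A5} (hπ : Function.Surjective π) (hV : IsPGroup 2 π.ker)
    (hfaith : ∀ x : K, (∀ v ∈ π.ker, x * v * x⁻¹ * v⁻¹ ∈ closure {x | ∃ v ∈ π.ker, v * v = x}) → x ∈ π.ker)
    (h4 : Cfsg.SectionalPRankLE 2 4 K) :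
    (Cfsg.IsElementaryAbelian 2 π.ker ∧ Nat.card π.ker = 16) ∨
      (Nat.card π.ker = 32 ∧ ∃ A B : Subgroup π.ker,
        Nonempty (↥A ≃* QuaternionGroup 2) ∧ Nonempty (↥B ≃* DihedralGroup 4) ∧
          (∀ a ∈ A, ∀ b ∈ B, a * b = b * a) ∧ A ⊔ B = ⊤ ∧ A ⊓ B = center π.ker) := by
  classical
  haveI : Fact (Nat.Prime 2) := ⟨Nat.prime_two⟩
  set V := π.ker with hVdef
  haveI hVn : V.Normal := MonoidHom.normal_ker π
  set L := closure {x | ∃ v ∈ V, v * v = x} with hL
  haveI hLn : L.Normal := ⟨fun x hx g => by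
    induction hx using closure_induction with
    | mem x hx =>
      obtain ⟨v, hv, rfl⟩ := hx
      exact subset_closure ⟨g * v * g⁻¹, hVn.conj_mem v hv g, by group⟩
    | one => simp
    | mul x y _ _ hx hy =>
      rw [show g * (x * y) * g⁻¹ = g * x * g⁻¹ * (g * y * g⁻¹) by group]; exact mul_mem hx hy
    | inv x _ hx => rw [show g * x⁻¹ * g⁻¹ = (g * x * g⁻¹)⁻¹ by group]; exact inv_mem hx⟩
  have hLV : L ≤ V := (closure_le _).2 (by rintro _ ⟨v, hv, rfl⟩; exact mul_mem hv hv)
  set N := nextLayer V L with hN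
  haveI hNn : N.Normal := nextLayer_normal hVn hLn
  have hNL : N ≤ L := nextLayer_le hLn
  obtain ⟨hidx, hW, y, hy, hyW, hyL⟩ := layer_quotient hπ hV hLn hNn hNL hLV rfl
    (fun m hm v hv => subset_closure (Or.inr ⟨m, hm, v, hv, rfl⟩))
    (fun m hm => subset_closure (Or.inl ⟨m, hm, rfl⟩)) hfaith h4
  have hVL : Nat.card V = 16 * Nat.card L := by
    rw [← hW, ← relIndex_ker (K := V) (QuotientGroup.mk' L), QuotientGroup.ker_mk', relIndex,
      ← Nat.card_congr (subgroupOfEquivOfLe hLV).toEquiv, mul_comm, card_mul_index]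
  by_cases hL0 : L = ⊥
  · refine Or.inl ⟨⟨⟨⟨fun a b => ?_⟩⟩, fun a ha => ?_⟩, by rw [hVL, hL0, card_bot]⟩
    · have hsq : ∀ v : V, v⁻¹ = v := fun v => inv_eq_of_mul_eq_one_left (Subtype.ext (by
        have : v.1 * v.1 ∈ L := subset_closure ⟨v.1, v.2, rfl⟩
        rwa [hL0, mem_bot] at this))
      rw [← hsq (a * b), mul_inv_rev, hsq, hsq]
    · have : a * a ∈ L := subset_closure ⟨a, ha, rfl⟩
      rw [sq]; rwa [hL0, mem_bot] at this
  have hi2 : N.relIndex L = 2 := by
    have h1 : N.relIndex L ≠ 1 := fun h => nextLayer_lt hV hLn hLV hL0 (le_antisymm hNL (relIndex_eq_one.1 h))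
    have h0 : N.relIndex L ≠ 0 := by
      rw [relIndex]; exact index_ne_zero_of_finite
    omega
  -- the second step is trivial
  have hN0 : N = ⊥ := by
    by_contra hN0
    set N2 := nextLayer V N with hN2
    haveI hN2n : N2.Normal := nextLayer_normal hVn hNn
    have hN2N : N2 ≤ N := nextLayer_le hNn
    let p := QuotientGroup.mk' N2
    have hcN : ∀ m ∈ N, ∀ v ∈ V, p m * p v = p v * p m := fun m hm v hv => by
      rw [← mul_inv_eq_one, mul_inv_rev, ← mul_assoc, ← map_inv, ← map_inv, ← map_mul, ← map_mul, ← map_mul]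
      exact (QuotientGroup.eq_one_iff _).2 (subset_closure (Or.inr ⟨m, hm, v, hv, rfl⟩))
    have hN22 : ∀ m ∈ N, p m * p m = 1 := fun m hm => by
      rw [← map_mul]; exact (QuotientGroup.eq_one_iff _).2 (subset_closure (Or.inl ⟨m, hm, rfl⟩))
    -- a square outside `N`
    obtain ⟨v₀, hv₀, hv₀N⟩ : ∃ v₀ ∈ V, v₀ * v₀ ∉ N := by
      by_contra h
      push Not at h
      have : L ≤ N := (closure_le _).2 (by rintro _ ⟨v, hv, rfl⟩; exact h v hv)
      rw [relIndex_eq_one.2 this] at hi2; omega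
    set z := v₀ * v₀ with hz
    have hzL : z ∈ L := subset_closure ⟨v₀, hv₀, rfl⟩
    have hLsplit : ∀ x ∈ L, x ∈ N ∨ z⁻¹ * x ∈ N := by
      intro x hx
      by_contra h
      push Not at h
      have h3 := Nat.card_le_card_of_injective (α := Fin 3)
        ![((1 : L) : L ⧸ N.subgroupOf L), ((⟨z, hzL⟩ : L) : L ⧸ N.subgroupOf L),
          ((⟨x, hx⟩ : L) : L ⧸ N.subgroupOf L)] (by
        intro i j hij
        fin_cases i <;> fin_cases j <;> first
          | rfl
          | (exfalso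
             have h' := QuotientGroup.eq.1 hij
             simp [mem_subgroupOf] at h'
             first
              | exact hv₀N h'
              | exact h.1 h'
              | exact h.2 h'
              | exact hv₀N (by simpa using inv_mem h')
              | exact h.1 (by simpa using inv_mem h')
              | exact h.2 (by simpa using inv_mem h')))
      rw [← index_eq_card, show (N.subgroupOf L).index = 2 from hi2] at h3
      simp at h3
    set C : Subgroup K := V ⊓ (centralizer {p z}).comap p with hC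
    have hCsq : ∀ v ∈ V, v * v ∉ N → v ∈ C := fun v hv hvN => by
      refine ⟨hv, ?_⟩
      have hm := (hLsplit _ (subset_closure ⟨v, hv, rfl⟩)).resolve_left hvN
      set m := z⁻¹ * (v * v) with hm'
      show p v ∈ centralizer {p z}
      rw [mem_centralizer_singleton_iff]
      have e : p z = p v * p v * (p m)⁻¹ := by
        rw [← map_mul, ← map_inv, ← map_mul, hm']
        congr 1
        group
      have hc : Commute (p v) (p m) := (hcN m hm v hv).symm
      rw [e]
      exact (((Commute.refl (p v)).mul_right (Commute.refl (p v))).mul_right hc.inv_right).eq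
    have hLC : L ≤ C := fun x hx => by
      refine ⟨hLV hx, ?_⟩
      show p x ∈ centralizer {p z}
      rw [mem_centralizer_singleton_iff]
      rcases hLsplit x hx with h | h
      · exact hcN x h z (hLV hzL)
      · have e : p x = p z * p (z⁻¹ * x) := by rw [← map_mul, mul_inv_cancel_left]
        rw [e, mul_assoc, hcN _ h z (hLV hzL)]
    have hyC : ∀ v ∈ C, y * v * y⁻¹ ∈ C := fun v hv => by
      refine ⟨hVn.conj_mem v hv.1 y, ?_⟩
      show p (y * v * y⁻¹) ∈ centralizer {p z}
      rw [mem_centralizer_singleton_iff]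
      obtain ⟨m, hm, e⟩ : ∃ m ∈ N, y * z * y⁻¹ = m * z := ⟨_, hyL z hzL, by group⟩
      have h := congrArg (fun w => p y * w * (p y)⁻¹) (mem_centralizer_singleton_iff.1 hv.2)
      have e' : p y * p z * (p y)⁻¹ = p m * p z := by rw [← map_inv, ← map_mul, ← map_mul, e, map_mul]
      rw [show p y * (p v * p z) * (p y)⁻¹ = (p y * p v * (p y)⁻¹) * (p y * p z * (p y)⁻¹) by group,
        show p y * (p z * p v) * (p y)⁻¹ = (p y * p z * (p y)⁻¹) * (p y * p v * (p y)⁻¹) by group,
        e', ← mul_assoc, ← map_inv, ← map_mul, ← map_mul, ← hcN m hm _ (hVn.conj_mem v hv.1 y),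
        mul_assoc, mul_assoc] at h
      simp only [mul_assoc] at h ⊢
      exact mul_left_cancel h
    have hCV : C = V := by
      let pL := QuotientGroup.mk' L
      set WK := V.map pL with hWK
      haveI : WK.Normal := hVn.map pL (QuotientGroup.mk'_surjective L)
      let b : MulAut WK := MulAut.conjNormal (pL y)
      have hb : ∀ w : WK, ((b w : WK) : K ⧸ L) = pL y * w * (pL y)⁻¹ := fun w => MulAut.conjNormal_apply _ _
      have hb5 : b ^ 5 = 1 := by rw [← map_pow, ← map_pow, hy, map_one, map_one]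
      have hbfix : ∀ w : WK, b w = w → w = 1 := by
        rintro ⟨_, v, hv, rfl⟩ h
        have h' : pL y * pL v * (pL y)⁻¹ = pL v := (hb _).symm.trans (congrArg Subtype.val h)
        refine Subtype.ext ((QuotientGroup.eq_one_iff v).2 (hyW v hv ((QuotientGroup.eq_one_iff _).1 ?_)))
        show pL (y * v * y⁻¹ * v⁻¹) = 1
        rw [map_mul, map_mul, map_mul, map_inv, map_inv, h', mul_inv_cancel]
      set S := (C.map pL).subgroupOf WK with hS
      have hSi : ∀ w ∈ (S : Set WK), b w ∈ (S : Set WK) := by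
        intro w hw
        obtain ⟨v, hv, e⟩ := mem_subgroupOf.1 hw
        refine mem_subgroupOf.2 ⟨y * v * y⁻¹, hyC v hv, ?_⟩
        rw [hb, ← e, map_mul, map_mul, map_inv]
      have h := invariant_ncard hb5 hbfix hSi
      rw [Set.inter_eq_right.2 (Set.singleton_subset_iff.2 S.one_mem), Set.ncard_singleton,
        ← Nat.card_coe_set_eq] at h
      have hd := Nat.mem_divisors.2 ⟨hW ▸ card_subgroup_dvd_card S, by norm_num⟩
      rw [show Nat.divisors 16 = {1, 2, 4, 8, 16} from by decide] at hd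
      simp only [Finset.mem_insert, Finset.mem_singleton] at hd
      change Nat.card ↥S % 5 = 1 % 5 at h
      have hne1 : Nat.card S ≠ 1 := fun h1 => by
        have hmem : (⟨pL v₀, v₀, hv₀, rfl⟩ : WK) ∈ S :=
          mem_subgroupOf.2 (mem_map_of_mem pL (hCsq v₀ hv₀ hv₀N))
        rw [card_eq_one.1 h1, mem_bot] at hmem
        have hv₀L : v₀ ∈ L := (QuotientGroup.eq_one_iff _).1 (congrArg Subtype.val hmem)
        exact hv₀N (subset_closure (Or.inl ⟨v₀, hv₀L, rfl⟩))
      have h16 : S = ⊤ := eq_top_of_card_eq _ (by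
        rw [show Nat.card WK = 16 from hW]; omega)
      refine le_antisymm inf_le_left fun v hv => ?_
      have hmem : (⟨pL v, v, hv, rfl⟩ : WK) ∈ S := h16 ▸ mem_top _
      obtain ⟨c, hc, e⟩ := mem_subgroupOf.1 hmem
      have hm : c⁻¹ * v ∈ L := (QuotientGroup.eq_one_iff _).1 (by
        show pL (c⁻¹ * v) = 1
        rw [map_mul, map_inv, e, inv_mul_cancel])
      simpa using mul_mem hc (hLC hm)
    have hzc : ∀ v ∈ V, p z * p v = p v * p z := fun v hv =>
      (mem_centralizer_singleton_iff.1 ((hCV.symm.le hv).2)).symm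
    have hLc : ∀ x ∈ L, ∀ v ∈ V, p x * p v = p v * p x := fun x hx v hv => by
      rcases hLsplit x hx with h | h
      · exact hcN x h v hv
      · rw [show p x = p z * p (z⁻¹ * x) by rw [← map_mul, mul_inv_cancel_left], mul_assoc, hcN _ h v hv,
          ← mul_assoc, hzc v hv, mul_assoc]
    -- a commutator outside `N`
    obtain ⟨u, hu, w, hw, huw⟩ : ∃ u ∈ V, ∃ w ∈ V, u * w * u⁻¹ * w⁻¹ ∉ N := by
      by_contra h
      push Not at h
      let pN := QuotientGroup.mk' N
      have hab : ∀ u ∈ V, ∀ w ∈ V, pN u * pN w = pN w * pN u := fun u hu w hw => by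
        rw [← mul_inv_eq_one, mul_inv_rev, ← mul_assoc, ← map_inv, ← map_inv, ← map_mul, ← map_mul, ← map_mul]
        exact (QuotientGroup.eq_one_iff _).2 (h u hu w hw)
      let S : Subgroup K :=
        { carrier := {v | v ∈ V ∧ v * v ∈ N}
          one_mem' := ⟨V.one_mem, by rw [one_mul]; exact N.one_mem⟩
          mul_mem' := fun {a b} ha hb => ⟨mul_mem ha.1 hb.1, (QuotientGroup.eq_one_iff _).1 (by
            show pN (a * b * (a * b)) = 1
            rw [show a * b * (a * b) = a * (b * a) * b by group, map_mul, map_mul, map_mul, hab b hb.1 a ha.1,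
              show pN a * (pN a * pN b) * pN b = pN (a * a) * pN (b * b) by simp [map_mul, mul_assoc],
              show pN (a * a) = 1 from (QuotientGroup.eq_one_iff _).2 ha.2,
              show pN (b * b) = 1 from (QuotientGroup.eq_one_iff _).2 hb.2, one_mul])⟩
          inv_mem' := fun {a} ha => ⟨inv_mem ha.1, by rw [← mul_inv_rev]; exact inv_mem ha.2⟩ }
      have hSV : S ≤ V := fun v hv => hv.1
      have hLS : L ≤ S := fun x hx => ⟨hLV hx, subset_closure (Or.inl ⟨x, hx, rfl⟩)⟩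
      let pL := QuotientGroup.mk' L
      set WK := V.map pL with hWK
      haveI : WK.Normal := hVn.map pL (QuotientGroup.mk'_surjective L)
      let b : MulAut WK := MulAut.conjNormal (pL y)
      have hb : ∀ w : WK, ((b w : WK) : K ⧸ L) = pL y * w * (pL y)⁻¹ := fun w => MulAut.conjNormal_apply _ _
      have hb5 : b ^ 5 = 1 := by rw [← map_pow, ← map_pow, hy, map_one, map_one]
      have hbfix : ∀ w : WK, b w = w → w = 1 := by
        rintro ⟨_, v, hv, rfl⟩ h
        have h' : pL y * pL v * (pL y)⁻¹ = pL v := (hb _).symm.trans (congrArg Subtype.val h)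
        refine Subtype.ext ((QuotientGroup.eq_one_iff v).2 (hyW v hv ((QuotientGroup.eq_one_iff _).1 ?_)))
        show pL (y * v * y⁻¹ * v⁻¹) = 1
        rw [map_mul, map_mul, map_mul, map_inv, map_inv, h', mul_inv_cancel]
      have hSi : ∀ w ∈ (((S.map pL).subgroupOf WK : Subgroup WK) : Set WK),
          b w ∈ (((S.map pL).subgroupOf WK : Subgroup WK) : Set WK) := by
        intro w hw
        obtain ⟨v, hv, e⟩ := mem_subgroupOf.1 hw
        refine mem_subgroupOf.2 ⟨y * v * y⁻¹, ⟨hVn.conj_mem v hv.1 y, ?_⟩, ?_⟩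
        · rw [show y * v * y⁻¹ * (y * v * y⁻¹) = y * (v * v) * y⁻¹ by group]
          exact hNn.conj_mem _ hv.2 y
        · rw [hb, ← e, map_mul, map_mul, map_inv]
      have h' := invariant_ncard hb5 hbfix hSi
      rw [Set.inter_eq_right.2 (Set.singleton_subset_iff.2 (one_mem _)), Set.ncard_singleton,
        ← Nat.card_coe_set_eq] at h'
      change Nat.card ↥((S.map pL).subgroupOf WK) % 5 = 1 % 5 at h'
      have hcard : Nat.card ↥((S.map pL).subgroupOf WK) * 2 = 16 := by
        let sq : V →* ↥(L.map pN) :=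
          { toFun := fun v => ⟨pN (v.1 * v.1), mem_map_of_mem pN (subset_closure ⟨v.1, v.2, rfl⟩)⟩
            map_one' := Subtype.ext (by simp)
            map_mul' := fun a b => Subtype.ext (by
              show pN (a.1 * b.1 * (a.1 * b.1)) = pN (a.1 * a.1) * pN (b.1 * b.1)
              rw [show a.1 * b.1 * (a.1 * b.1) = a.1 * (b.1 * a.1) * b.1 by group, map_mul, map_mul, map_mul,
                hab b.1 b.2 a.1 a.2]
              simp [map_mul, mul_assoc]) }
        have hker : sq.ker = S.subgroupOf V := by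
          ext v
          rw [MonoidHom.mem_ker, mem_subgroupOf]
          exact ⟨fun h => ⟨v.2, (QuotientGroup.eq_one_iff _).1 (congrArg Subtype.val h)⟩,
            fun h => Subtype.ext ((QuotientGroup.eq_one_iff _).2 h.2)⟩
        have hcardLN : Nat.card ↥(L.map pN) = 2 := by
          rw [← hi2, ← relIndex_ker (K := L) pN, QuotientGroup.ker_mk']
        have hne : sq.range ≠ ⊥ := fun h0 => hv₀N ((QuotientGroup.eq_one_iff _).1 (by
          have h1 : sq ⟨v₀, hv₀⟩ ∈ sq.range := ⟨_, rfl⟩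
          rw [h0, mem_bot] at h1
          exact congrArg Subtype.val h1))
        have h2 : Nat.card sq.range = 2 := by
          have ha := sq.range.one_lt_card_iff_ne_bot.2 hne
          have hb := Nat.le_of_dvd Nat.card_pos (card_subgroup_dvd_card sq.range)
          rw [hcardLN] at hb
          omega
        have hm := card_mul_index sq.ker
        rw [index_ker, h2, hker, Nat.card_congr (subgroupOfEquivOfLe hSV).toEquiv, hVL] at hm
        have hSL : Nat.card ↥((S.map pL).subgroupOf WK) * Nat.card L = Nat.card S := by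
          rw [Nat.card_congr (subgroupOfEquivOfLe (map_mono hSV : S.map pL ≤ WK)).toEquiv,
            ← relIndex_ker (K := S) pL, QuotientGroup.ker_mk', relIndex, mul_comm,
            ← Nat.card_congr (subgroupOfEquivOfLe hLS).toEquiv, card_mul_index]
        have hpos : 0 < Nat.card L := Nat.card_pos
        refine Nat.eq_of_mul_eq_mul_right hpos ?_
        rw [mul_right_comm, hSL, hm]
      omega
    have hzz : p z * p z = 1 := by
      set c := u * w * u⁻¹ * w⁻¹ with hc
      have hcL : c ∈ L := by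
        rw [hc, show u * w * u⁻¹ * w⁻¹ = (u * w) * (u * w) * ((w⁻¹ * (u⁻¹ * u⁻¹) * w) * (w⁻¹ * w⁻¹)) by group]
        refine mul_mem (subset_closure ⟨_, mul_mem hu hw, rfl⟩) (mul_mem ?_ (subset_closure ⟨_, inv_mem hw, rfl⟩))
        simpa using hLn.conj_mem _ (subset_closure ⟨u⁻¹, inv_mem hu, rfl⟩ : u⁻¹ * u⁻¹ ∈ L) w⁻¹
      have hm := (hLsplit c hcL).resolve_left huw
      have e : p c = p z * p (z⁻¹ * c) := by rw [← map_mul, mul_inv_cancel_left]
      have hc2 : p c * p c = 1 := by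
        have hu2 := hLc _ (subset_closure ⟨u, hu, rfl⟩ : u * u ∈ L) w hw
        have hcu := hLc c hcL u hu
        rw [map_mul] at hu2
        have h' : p c * p c * (p w * (p u * p u)) = p u * p u * p w := by
          rw [show p c * p c * (p w * (p u * p u)) = p c * (p c * (p w * p u)) * p u by group,
            show p c * (p w * p u) = p u * p w by rw [hc, map_mul, map_mul, map_mul, map_inv, map_inv]; group,
            ← mul_assoc (p c), hcu, show p u * p c * p w * p u = p u * (p c * (p w * p u)) by group,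
            show p c * (p w * p u) = p u * p w by rw [hc, map_mul, map_mul, map_mul, map_inv, map_inv]; group]
          group
        rw [hu2] at h'
        exact mul_eq_right.1 h'
      rw [e, show p z * p (z⁻¹ * c) * (p z * p (z⁻¹ * c)) = p z * (p (z⁻¹ * c) * p z) * p (z⁻¹ * c) by group,
        hcN _ hm z (hLV hzL), show p z * (p z * p (z⁻¹ * c)) * p (z⁻¹ * c) =
          p z * p z * (p (z⁻¹ * c) * p (z⁻¹ * c)) by group, hN22 _ hm, mul_one] at hc2
      exact hc2
    obtain ⟨h2, -⟩ := layer_quotient hπ hV hLn hN2n (hN2N.trans hNL) hLV rfl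
      (fun m hm v hv => (QuotientGroup.eq_one_iff _).1 (by
        show p (m * v * m⁻¹ * v⁻¹) = 1
        rw [map_mul, map_mul, map_mul, map_inv, map_inv, hLc m hm v hv]; group))
      (fun m hm => (QuotientGroup.eq_one_iff _).1 (by
        show p (m * m) = 1
        rw [map_mul]
        rcases hLsplit m hm with h | h
        · exact hN22 m h
        · have e : p m = p z * p (z⁻¹ * m) := by rw [← map_mul, mul_inv_cancel_left]
          rw [e, show p z * p (z⁻¹ * m) * (p z * p (z⁻¹ * m)) = p z * (p (z⁻¹ * m) * p z) * p (z⁻¹ * m) by group,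
            hcN _ h z (hLV hzL), show p z * (p z * p (z⁻¹ * m)) * p (z⁻¹ * m) =
              p z * p z * (p (z⁻¹ * m) * p (z⁻¹ * m)) by group, hzz, hN22 _ h, one_mul]))
      hfaith h4
    have hmul := relIndex_mul_relIndex N2 N L hN2N hNL
    have h1 : N2.relIndex N ≠ 1 := fun h => nextLayer_lt hV hNn (hNL.trans hLV) hN0
      (le_antisymm hN2N (relIndex_eq_one.1 h))
    have h0 : N2.relIndex N ≠ 0 := by rw [relIndex]; exact index_ne_zero_of_finite
    rw [hi2] at hmul
    omega
  have hL2 : Nat.card L = 2 := by rw [← hi2, hN0, relIndex_bot_left]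
  refine Or.inr (extraspecial_minus (L.subgroupOf V) ?_ ?_ (fun v => ?_) ?_
    (MulAut.conjNormal y) ?_ (fun v hv => ?_) (fun v h => ?_))
  · rw [Nat.card_congr (subgroupOfEquivOfLe hLV).toEquiv, hL2]
  · rw [← hW, ← relIndex_ker (K := V) (QuotientGroup.mk' L), QuotientGroup.ker_mk']
    rfl
  · exact mem_subgroupOf.2 (subset_closure ⟨v.1, v.2, rfl⟩)
  · by_contra hno
    push Not at hno
    refine hL0 (eq_bot_iff.2 ((closure_le _).2 ?_))
    rintro _ ⟨v, hv, rfl⟩
    exact mem_bot.2 (congrArg Subtype.val (hno ⟨v, hv⟩))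
  · rw [← map_pow, hy, map_one]
  · refine Subtype.ext ?_
    rw [MulAut.conjNormal_apply]
    have h := hyL v.1 (mem_subgroupOf.1 hv)
    rw [hN0, mem_bot, mul_inv_eq_one] at h
    exact h
  · rw [mem_subgroupOf] at h ⊢
    exact hyW v.1 v.2 (by simpa [MulAut.conjNormal_apply] using h)

end Cfsg.Lib.Small.SecRankFour
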