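import Cfsg.Agent.Lib.Small.SecRankFour.Five.Main

/-!
# Restriction to a preimage of the alternating group of degree five
-/

set_option autoImplicit false

namespace Cfsg.Lib.Small.SecRankFour

open Subgroup

theorem sectional_subgroup {X : Type*} [Group X] (h : Cfsg.SectionalPRankLE 2 4 X) (S : Subgroup X) :
    Cfsg.SectionalPRankLE 2 4 S := by
  intro H N hN A hA hA2
  let e : H ≃* H.map S.subtype := H.equivMapOfInjective _ S.subtype_injective
  haveI hNn : (N.map e.toMonoidHom).Normal := hN.map _ e.surjective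
  let e' : H ⧸ N ≃* ↥(H.map S.subtype) ⧸ N.map e.toMonoidHom := QuotientGroup.congr N _ e rfl
  have hb := h (H.map S.subtype) (N.map e.toMonoidHom) (A.map e'.toMonoidHom) (map_isMulCommutative A _)
    fun a ha => by
      obtain ⟨b, hb, rfl⟩ := ha
      rw [← map_pow, hA2 b hb, map_one]
  have hcard : Nat.card (A.map e'.toMonoidHom) = Nat.card A :=
    (Nat.card_congr (A.equivMapOfInjective e'.toMonoidHom (fun a b h => e'.injective h)).toEquiv).symm
  exact hcard ▸ hb

variable {X : Type*} [Group X] [Finite X]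

/-- The two-core under a section `A₅`. -/
theorem two_core_five (hc : Cfsg.IsPConstrained 2 X) (hO : Cfsg.oddCore X = ⊥)
    (h4 : Cfsg.SectionalPRankLE 2 4 X) (A : Subgroup (X ⧸ Cfsg.pCore 2 X))
    (eA : ↥A ≃* A5) :
    (Cfsg.IsElementaryAbelian 2 (Cfsg.pCore 2 X) ∧ Nat.card ↥(Cfsg.pCore 2 X) = 16) ∨
      (Nat.card ↥(Cfsg.pCore 2 X) = 32 ∧ ∃ A B : Subgroup ↥(Cfsg.pCore 2 X),
        Nonempty (↥A ≃* QuaternionGroup 2) ∧ Nonempty (↥B ≃* DihedralGroup 4) ∧ (∀ a ∈ A, ∀ b ∈ B, a * b = b * a) ∧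
          A ⊔ B = ⊤ ∧ A ⊓ B = Subgroup.center ↥(Cfsg.pCore 2 X)) := by
  classical
  haveI : Fact (Nat.Prime 2) := ⟨Nat.prime_two⟩
  set P := Cfsg.pCore 2 X with hPdef
  have hC := Cfsg.Agent.S3103.centralizer_le hc hO
  have hP : IsPGroup 2 P := Cfsg.Lib.Core.pCore_isPGroup 2 X
  set X0 : Subgroup X := A.comap (QuotientGroup.mk' P) with hX0
  have hPX0 : P ≤ X0 := fun x hx => by
    show QuotientGroup.mk' P x ∈ A
    rw [show QuotientGroup.mk' P x = 1 from (QuotientGroup.eq_one_iff x).2 hx]; exact A.one_mem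
  let π : X0 →* A5 := eA.toMonoidHom.comp ((QuotientGroup.mk' P).subgroupComap A)
  have hπ : Function.Surjective π := eA.surjective.comp fun y => by
    obtain ⟨x, hx⟩ := QuotientGroup.mk'_surjective P y.1
    exact ⟨⟨x, show QuotientGroup.mk' P x ∈ A from hx ▸ y.2⟩, Subtype.ext hx⟩
  have hmem : ∀ x : X0, x ∈ π.ker ↔ x.1 ∈ P := fun x => by
    rw [MonoidHom.mem_ker]
    show eA ((QuotientGroup.mk' P).subgroupComap A x) = 1 ↔ _
    rw [EmbeddingLike.map_eq_one_iff, Subtype.ext_iff]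
    exact QuotientGroup.eq_one_iff x.1
  let ev : π.ker ≃* P :=
    { toFun := fun v => ⟨v.1.1, (hmem v.1).1 v.2⟩
      invFun := fun v => ⟨⟨v.1, hPX0 v.2⟩, (hmem _).2 v.2⟩
      left_inv := fun v => rfl
      right_inv := fun v => rfl
      map_mul' := fun v w => rfl }
  have hV : IsPGroup 2 π.ker := hP.of_equiv ev.symm
  set L := closure {x : X0 | ∃ v ∈ π.ker, v * v = x} with hL
  have hLf : ∀ u : X0, u ∈ L → ∀ hu : u.1 ∈ P, (⟨u.1, hu⟩ : P) ∈ frattini ↥P := by
    intro u hu
    induction hu using closure_induction with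
    | mem x hx =>
      intro hx'
      obtain ⟨v, hv, rfl⟩ := hx
      have hel := (Cfsg.Lib.PGroup.isElementaryAbelian_quotient_frattini hP).2
        (((⟨v.1, (hmem v).1 hv⟩ : P)) : ↥P ⧸ frattini ↥P) (mem_top _)
      rw [← QuotientGroup.mk_pow, QuotientGroup.eq_one_iff, sq] at hel
      exact hel
    | one => intro _; exact (frattini ↥P).one_mem
    | mul x y hx hy ihx ihy =>
      intro hxy
      have hxP : x.1 ∈ P := (hmem x).1 ((closure_le _).2 (by rintro _ ⟨v, hv, rfl⟩; exact mul_mem hv hv) hx)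
      have hyP : y.1 ∈ P := (hmem y).1 ((closure_le _).2 (by rintro _ ⟨v, hv, rfl⟩; exact mul_mem hv hv) hy)
      exact mul_mem (ihx hxP) (ihy hyP)
    | inv x hx ih =>
      intro hxi
      have hxP : x.1 ∈ P := (hmem x).1 ((closure_le _).2 (by rintro _ ⟨v, hv, rfl⟩; exact mul_mem hv hv) hx)
      exact inv_mem (ih hxP)
  have hfaith : ∀ x : X0, (∀ v ∈ π.ker, x * v * x⁻¹ * v⁻¹ ∈ L) → x ∈ π.ker := by
    -- the elements acting trivially modulo squares form a normal two-subgroup
    haveI hLn : L.Normal := ⟨fun x hx g => by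
      induction hx using closure_induction with
      | mem x hx =>
        obtain ⟨v, hv, rfl⟩ := hx
        exact subset_closure ⟨g * v * g⁻¹, (MonoidHom.normal_ker π).conj_mem v hv g, by group⟩
      | one => simp
      | mul x y _ _ hx hy =>
        rw [show g * (x * y) * g⁻¹ = g * x * g⁻¹ * (g * y * g⁻¹) by group]; exact mul_mem hx hy
      | inv x _ hx => rw [show g * x⁻¹ * g⁻¹ = (g * x * g⁻¹)⁻¹ by group]; exact inv_mem hx⟩
    let q := QuotientGroup.mk' L
    haveI : (π.ker.map q).Normal := (MonoidHom.normal_ker π).map q (QuotientGroup.mk'_surjective L)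
    let ψ : X0 →* MulAut ↥(π.ker.map q) := (MulAut.conjNormal : X0 ⧸ L →* _).comp q
    have hψ : ∀ x : X0, x ∈ ψ.ker ↔ ∀ v ∈ π.ker, x * v * x⁻¹ * v⁻¹ ∈ L := fun x => by
      rw [MonoidHom.mem_ker]
      constructor
      · intro h v hv
        refine (QuotientGroup.eq_one_iff _).1 ?_
        show q (x * v * x⁻¹ * v⁻¹) = 1
        have h' : q x * q v * (q x)⁻¹ = q v :=
          congrArg (fun a : MulAut ↥(π.ker.map q) => ((a ⟨q v, v, hv, rfl⟩ : ↥(π.ker.map q)) : X0 ⧸ L)) h
        rw [map_mul, map_mul, map_mul, map_inv, map_inv, h', mul_inv_cancel]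
      · intro h
        refine MulEquiv.ext fun w => Subtype.ext ?_
        obtain ⟨_, v, hv, rfl⟩ := w
        show q x * q v * (q x)⁻¹ = q v
        rw [← mul_inv_eq_one, ← map_inv, ← map_mul, ← map_mul, ← map_inv, ← map_mul]
        exact (QuotientGroup.eq_one_iff _).2 (h v hv)
    have hp : IsPGroup 2 ψ.ker := by
      rintro ⟨x, hx⟩
      let conjP : X →* MulAut ↥P := MulAut.conjNormal
      have hz : conjP x.1 ∈ Cfsg.Lib.PGroup.frattiniStab ↥P := fun u => by
        have hu := (hψ x).1 hx ⟨u.1, hPX0 u.2⟩ ((hmem _).2 u.2)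
        have hm : ((x * ⟨u.1, hPX0 u.2⟩ * x⁻¹ * (⟨u.1, hPX0 u.2⟩ : X0)⁻¹ : X0)).1 ∈ P := by
          show x.1 * u.1 * x.1⁻¹ * u.1⁻¹ ∈ P
          exact mul_mem ((inferInstance : P.Normal).conj_mem _ u.2 x.1) (inv_mem u.2)
        have h := (inferInstance : (frattini ↥P).Normal).conj_mem _ (hLf _ hu hm) u⁻¹
        have e : u⁻¹ * conjP x.1 u =
            u⁻¹ * (⟨_, hm⟩ : P) * u⁻¹⁻¹ := Subtype.ext (by
          simp [conjP, MulAut.conjNormal_apply, mul_assoc])
        rw [e]; exact h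
      obtain ⟨k, hk⟩ := Cfsg.Lib.PGroup.isPGroup_frattiniStab hP ⟨conjP x.1, hz⟩
      have hk' : x.1 ^ 2 ^ k ∈ centralizer (P : Set X) := by
        refine mem_centralizer_iff.2 fun y hy => ?_
        have := congrArg (fun a : Cfsg.Lib.PGroup.frattiniStab ↥P => ((a.1 ⟨y, hy⟩ : ↥P) : X)) hk
        simp only [SubmonoidClass.coe_pow, ← map_pow, OneMemClass.coe_one, MulAut.one_apply, conjP,
          MulAut.conjNormal_apply] at this
        exact (mul_inv_eq_iff_eq_mul.1 this).symm
      obtain ⟨j, hj⟩ := hP ⟨_, hC hk'⟩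
      exact ⟨k + j, Subtype.ext (Subtype.ext (by
        have := congrArg Subtype.val hj
        simpa [pow_add, pow_mul] using this))⟩
    intro x hx
    haveI : IsSimpleGroup A5 := alternatingGroup.isSimpleGroup (by simp)
    rcases ((MonoidHom.normal_ker ψ).map π hπ).eq_bot_or_eq_top with h | h
    · exact (Subgroup.map_eq_bot_iff _).1 h ((hψ x).2 hx)
    · exfalso
      obtain ⟨j, hj⟩ := (hp.map π).exists_card_eq
      rw [h, card_top, card_A5] at hj
      have h3 : 3 ∣ 2 ^ j := hj ▸ (by norm_num : 3 ∣ 60)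
      exact absurd ((Nat.prime_dvd_prime_iff_eq Nat.prime_three Nat.prime_two).1
        (Nat.prime_three.dvd_of_dvd_pow h3)) (by norm_num)
  rcases five_radical hπ hV hfaith (sectional_subgroup h4 X0) with ⟨hel, hcard⟩ | ⟨hcard, A', B', hA, hB, hcomm, hsup, hinf⟩
  · refine Or.inl ⟨⟨⟨⟨fun a b => ev.symm.injective ?_⟩⟩, fun a ha => ?_⟩, by rw [← hcard, Nat.card_congr ev.toEquiv]⟩
    · rw [map_mul, map_mul]; exact hel.1.is_comm.comm _ _
    · have h := hel.2 _ (ev.symm ⟨a, ha⟩).2
      exact congrArg Subtype.val h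
  · refine Or.inr ⟨by rw [← hcard, Nat.card_congr ev.toEquiv], A'.map ev.toMonoidHom, B'.map ev.toMonoidHom,
      hA.map (fun e => (A'.equivMapOfInjective _ ev.injective).symm.trans e),
      hB.map (fun e => (B'.equivMapOfInjective _ ev.injective).symm.trans e), ?_, ?_, ?_⟩
    · rintro _ ⟨a, ha, rfl⟩ _ ⟨b, hb, rfl⟩
      show ev a * ev b = ev b * ev a
      rw [← map_mul, ← map_mul, hcomm a ha b hb]
    · rw [← Subgroup.map_sup, hsup, Subgroup.map_top_of_surjective _ ev.surjective]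
    · rw [← Subgroup.map_inf _ _ _ ev.injective, hinf]
      ext x
      rw [mem_map, mem_center_iff]
      constructor
      · rintro ⟨c, hc, rfl⟩ g
        obtain ⟨g, rfl⟩ := ev.surjective g
        show ev g * ev c = ev c * ev g
        rw [← map_mul, ← map_mul, mem_center_iff.1 hc g]
      · intro hx
        refine ⟨ev.symm x, mem_center_iff.2 fun g => ev.injective ?_, ev.apply_symm_apply x⟩
        rw [map_mul, map_mul, ev.apply_symm_apply, hx]

end Cfsg.Lib.Small.SecRankFour
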