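import Cfsg.Agent.Lib.Small.SecRankFour.Five.Action

/-!
# A fixed point free layer gives a section of rank five
-/

set_option autoImplicit false

namespace Cfsg.Lib.Small.SecRankFour

open Subgroup

variable {K : Type*} [Group K] [Finite K]

/-- An element of a coset inverting an element without fixed points. -/
theorem exists_inverter {V : Subgroup K} (hV : V.Normal) {y t : K}
    (hfix : ∀ v ∈ V, Commute y v → v = 1) (ht : t * y * t⁻¹ * y ∈ V) :
    ∃ v ∈ V, v * t * y * (v * t)⁻¹ = y⁻¹ := by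
  haveI := hV
  let f : V → V := fun v => ⟨v.1 * y⁻¹ * v.1⁻¹ * y, by
    rw [show v.1 * y⁻¹ * v.1⁻¹ * y = v.1 * (y⁻¹ * v.1⁻¹ * y⁻¹⁻¹) by group]
    exact mul_mem v.2 (hV.conj_mem _ (inv_mem v.2) _)⟩
  have hf : Function.Injective f := fun a b hab => by
    have h : a.1 * y⁻¹ * a.1⁻¹ * y = b.1 * y⁻¹ * b.1⁻¹ * y := congrArg Subtype.val hab
    have h' : a.1 * y⁻¹ * a.1⁻¹ = b.1 * y⁻¹ * b.1⁻¹ := mul_right_cancel h
    have hc : Commute y⁻¹ (b.1⁻¹ * a.1) := by
      show y⁻¹ * (b.1⁻¹ * a.1) = b.1⁻¹ * a.1 * y⁻¹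
      calc y⁻¹ * (b.1⁻¹ * a.1) = b.1⁻¹ * (b.1 * y⁻¹ * b.1⁻¹) * a.1 := by group
        _ = b.1⁻¹ * (a.1 * y⁻¹ * a.1⁻¹) * a.1 := by rw [h']
        _ = b.1⁻¹ * a.1 * y⁻¹ := by group
    exact Subtype.ext (inv_mul_eq_one.1 (hfix _ (mul_mem (inv_mem b.2) a.2) (by simpa using hc.inv_left))).symm
  obtain ⟨v, hv⟩ := (Finite.injective_iff_surjective.1 hf) ⟨_, ht⟩
  have h : v.1 * y⁻¹ * v.1⁻¹ * y = t * y * t⁻¹ * y := congrArg Subtype.val hv
  have h' : v.1 * y⁻¹ * v.1⁻¹ = t * y * t⁻¹ := mul_right_cancel h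
  refine ⟨v.1⁻¹, inv_mem v.2, ?_⟩
  rw [show v.1⁻¹ * t * y * (v.1⁻¹ * t)⁻¹ = v.1⁻¹ * (t * y * t⁻¹) * v.1 by group, ← h']
  group

/-- Conjugation on an abelian normal section. -/
theorem conj_val {W : Subgroup K} (hW : W.Normal) (k : K) (w : W) :
    ((MulAut.conjNormal (H := W) k w : W) : K) = k * w * k⁻¹ :=
  MulAut.conjNormal_apply k w

/-- Elementary abelian quotient from commuting involutory generators. -/
theorem elementary_of_generators {G : Type*} [Group G] {S : Set G} (hgen : closure S = ⊤)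
    (hc : ∀ a ∈ S, ∀ b ∈ S, a * b = b * a) (h2 : ∀ a ∈ S, a * a = 1) :
    IsMulCommutative (⊤ : Subgroup G) ∧ ∀ a ∈ (⊤ : Subgroup G), a ^ 2 = 1 := by
  haveI hcomm : IsMulCommutative (⊤ : Subgroup G) := hgen ▸ isMulCommutative_closure hc
  refine ⟨hcomm, fun a ha => ?_⟩
  rw [← hgen] at ha
  induction ha using closure_induction with
  | mem x hx => rw [sq]; exact h2 x hx
  | one => exact one_pow 2
  | mul x y _ _ hx hy =>
    have hxy : Commute x y :=
      congrArg Subtype.val (mul_comm' (⟨x, mem_top x⟩ : (⊤ : Subgroup G)) ⟨y, mem_top y⟩)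
    rw [hxy.mul_pow, hx, hy, one_mul]
  | inv x _ hx => rw [inv_pow, hx, inv_one]

/-- The section of rank five. -/
theorem not_rank_four_fpf {V M : Subgroup K} (hV : V.Normal) (hM : M.Normal) (hMV : M ≤ V)
    (hMc : ∀ m ∈ M, ∀ v ∈ V, Commute m v) (hM2 : ∀ m ∈ M, m * m = 1) (hsq : ∀ v ∈ V, v * v ∈ M)
    (hMcard : Nat.card M = 16) (hVcard : Nat.card (V.map (QuotientGroup.mk' M)) = 16)
    {y e : K} (hy : y ^ 5 = 1) (he : e * e = 1) (heV : e ∉ V) (hey : e * y * e⁻¹ = y⁻¹)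
    (hfM : ∀ m ∈ M, Commute y m → m = 1) (hfW : ∀ v ∈ V, y * v * y⁻¹ * v⁻¹ ∈ M → v ∈ M) :
    ¬ Cfsg.SectionalPRankLE 2 4 K := by
  classical
  intro hK
  haveI := hV
  haveI := hM
  let π := QuotientGroup.mk' M
  set WK := V.map π with hWK
  haveI hWn : WK.Normal := hV.map π (QuotientGroup.mk'_surjective M)
  have hWsq : ∀ w : WK, w ^ 2 = 1 := by
    rintro ⟨_, u, hu, rfl⟩
    refine Subtype.ext ?_
    show π u ^ 2 = 1
    rw [sq, ← map_mul]
    exact (QuotientGroup.eq_one_iff _).2 (hsq u hu)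
  have hab : ∀ a b : WK, a * b = b * a := fun a b => by
    have hi : ∀ w : WK, w⁻¹ = w := fun w => inv_eq_of_mul_eq_one_left (by rw [← sq, hWsq])
    rw [← hi (a * b), mul_inv_rev, hi, hi]
  letI : CommGroup WK := { (inferInstance : Group WK) with mul_comm := hab }
  letI : CommGroup M := { (inferInstance : Group M) with
    mul_comm := fun a b => Subtype.ext (hMc a.1 a.2 b.1 (hMV b.2)).eq }
  have hM2' : ∀ w : M, w ^ 2 = 1 := fun w => Subtype.ext (by
    rw [SubmonoidClass.coe_pow, sq]; exact hM2 _ w.2)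
  let φM : K →* MulAut M := MulAut.conjNormal
  let φW : K →* MulAut WK := (MulAut.conjNormal : K ⧸ M →* MulAut WK).comp π
  have hrelM : φM e * φM y * (φM e)⁻¹ = (φM y)⁻¹ := by rw [← map_inv, ← map_mul, ← map_mul, hey, map_inv]
  have hrelW : φW e * φW y * (φW e)⁻¹ = (φW y)⁻¹ := by rw [← map_inv, ← map_mul, ← map_mul, hey, map_inv]
  have hbM : fixed (φM y) = ⊥ := eq_bot_iff.2 fun m hm => by
    have h := congrArg Subtype.val (mem_fixed.1 hm)
    rw [conj_val hM, mul_inv_eq_iff_eq_mul] at h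
    exact mem_bot.2 (Subtype.ext (hfM _ m.2 h))
  have hbW : fixed (φW y) = ⊥ := eq_bot_iff.2 fun w hw => by
    obtain ⟨_, u, hu, rfl⟩ := w
    have h : π y * π u * (π y)⁻¹ = π u := congrArg Subtype.val (mem_fixed.1 hw)
    rw [← mul_inv_eq_one, ← map_inv, ← map_mul, ← map_mul, ← map_inv, ← map_mul] at h
    exact mem_bot.2 (Subtype.ext ((QuotientGroup.eq_one_iff u).2
      (hfW u hu ((QuotientGroup.eq_one_iff _).1 h))))
  obtain ⟨hCM, hRM⟩ := inverter_fixed hM2' hMcard (a := φM e) (b := φM y)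
    (by rw [← map_mul, he, map_one]) (by rw [← map_pow, hy, map_one]) hbM hrelM
  obtain ⟨hCW, hRW⟩ := inverter_fixed hWsq hVcard (a := φW e) (b := φW y)
    (by rw [← map_mul, he, map_one]) (by rw [← map_pow, hy, map_one]) hbW hrelW
  set C : Subgroup K := (fixed (φM e)).map M.subtype with hC
  have hCmem : ∀ m ∈ M, e * m * e⁻¹ = m → m ∈ C := fun m hm h =>
    ⟨⟨m, hm⟩, mem_fixed.2 (Subtype.ext h), rfl⟩
  have hCM' : C ≤ M := map_subtype_le _
  have hCe : ∀ c ∈ C, e * c * e⁻¹ = c := by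
    rintro _ ⟨m, hm, rfl⟩
    exact congrArg Subtype.val (mem_fixed.1 hm)
  set U : Subgroup K := V ⊓ (centralizer {π e}).comap π with hU
  have hUV : U ≤ V := inf_le_left
  have hMU : M ≤ U := le_inf hMV fun m hm => by
    rw [mem_comap, mem_centralizer_singleton_iff, show π m = 1 from (QuotientGroup.eq_one_iff m).2 hm]
    simp
  have hUe : ∀ u ∈ U, ∃ m ∈ M, e * u * e⁻¹ = m * u := fun u hu => by
    refine ⟨e * u * e⁻¹ * u⁻¹, (QuotientGroup.eq_one_iff _).1 ?_, by group⟩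
    show π (e * u * e⁻¹ * u⁻¹) = 1
    rw [map_mul, map_mul, map_mul, map_inv, map_inv, ← (mem_centralizer_singleton_iff.1 hu.2 : _ = _)]
    group
  have hUcard : Nat.card U = 4 * 16 := by
    have hmap : Nat.card (U.map π) = 4 := by
      rw [← hCW]
      refine Nat.card_congr
        { toFun := fun x => ⟨⟨x.1, map_mono hUV x.2⟩, ?_⟩
          invFun := fun w => ⟨w.1.1, ?_⟩
          left_inv := fun x => rfl
          right_inv := fun x => rfl }
      · obtain ⟨_, u, hu, rfl⟩ := x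
        refine mem_fixed.2 (Subtype.ext ?_)
        show π e * π u * (π e)⁻¹ = π u
        rw [mul_inv_eq_iff_eq_mul]
        exact (mem_centralizer_singleton_iff.1 hu.2).symm
      · obtain ⟨⟨_, u, hu, rfl⟩, hw⟩ := w
        have h : π e * π u * (π e)⁻¹ = π u := congrArg Subtype.val (mem_fixed.1 hw)
        rw [mul_inv_eq_iff_eq_mul] at h
        exact ⟨u, ⟨hu, mem_centralizer_singleton_iff.2 h.symm⟩, rfl⟩
    rw [← hmap, ← hMcard, ← Nat.card_congr (subgroupOfEquivOfLe hMU).toEquiv,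
      show Nat.card (U.map π) = M.relIndex U by rw [← relIndex_ker (K := U) π, QuotientGroup.ker_mk'],
      relIndex, mul_comm, card_mul_index]
  set H := U ⊔ zpowers e with hH
  have hUH : U ≤ H := le_sup_left
  have heH : e ∈ H := mem_sup_right (mem_zpowers e)
  have hnorm : H ≤ normalizer (C : Set K) := by
    refine le_trans ?_ (centralizer_le_normalizer _)
    refine sup_le (fun u hu => mem_centralizer_iff.2 fun c hc => (hMc c (hCM' hc) u (hUV hu)).eq)
      (zpowers_le.2 (mem_centralizer_iff.2 fun c hc => ?_))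
    have h := hCe c hc
    rw [mul_inv_eq_iff_eq_mul] at h
    exact h.symm
  have hCH : C ≤ H := hCM'.trans (hMU.trans hUH)
  set N := C.subgroupOf H with hN
  haveI hNn : N.Normal := (normal_subgroupOf_iff_le_normalizer hCH).2 hnorm
  set q : H →* H ⧸ N := QuotientGroup.mk' N with hq
  have hzero : ∀ (x : H), x.1 ∈ C → q x = 1 := fun x hx => (QuotientGroup.eq_one_iff _).2 (mem_subgroupOf.2 hx)
  let S : Set (H ⧸ N) := insert (q ⟨e, heH⟩) (Set.range fun u : U => q ⟨u.1, hUH u.2⟩)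
  have hgen : closure S = ⊤ := by
    refine eq_top_iff.2 fun x _ => ?_
    obtain ⟨⟨k, hk⟩, rfl⟩ := QuotientGroup.mk'_surjective N x
    have hle : H ≤ ((closure S).comap q).map H.subtype := by
      refine sup_le (fun u hu => ?_) (zpowers_le.2 ⟨⟨e, heH⟩, subset_closure (Set.mem_insert _ _), rfl⟩)
      exact ⟨⟨u, hUH hu⟩, subset_closure (Set.mem_insert_of_mem _ ⟨⟨u, hu⟩, rfl⟩), rfl⟩
    obtain ⟨z, hz, hz'⟩ := hle hk
    obtain rfl : z = ⟨k, hk⟩ := Subtype.ext hz'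
    exact hz
  have hUsq : ∀ u : U, q ⟨u.1, hUH u.2⟩ * q ⟨u.1, hUH u.2⟩ = 1 := fun u => by
    rw [← map_mul]
    refine hzero _ (hCmem _ (hsq u.1 (hUV u.2)) ?_)
    obtain ⟨m, hm, h⟩ := hUe u.1 u.2
    show e * (u.1 * u.1) * e⁻¹ = u.1 * u.1
    rw [show e * (u.1 * u.1) * e⁻¹ = (e * u.1 * e⁻¹) * (e * u.1 * e⁻¹) by group, h,
      show m * u.1 * (m * u.1) = m * (u.1 * m) * u.1 by group, ← (hMc m hm u.1 (hUV u.2)).eq,
      show m * (m * u.1) * u.1 = (m * m) * (u.1 * u.1) by group, hM2 m hm, one_mul]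
  have hUc : ∀ u v : U, q ⟨u.1, hUH u.2⟩ * q ⟨v.1, hUH v.2⟩ = q ⟨v.1, hUH v.2⟩ * q ⟨u.1, hUH u.2⟩ :=
    fun u v => by
      have hi : ∀ w : U, (q ⟨w.1, hUH w.2⟩)⁻¹ = q ⟨w.1, hUH w.2⟩ := fun w =>
        inv_eq_of_mul_eq_one_left (hUsq w)
      have hprod : q ⟨(u * v).1, hUH (u * v).2⟩ = q ⟨u.1, hUH u.2⟩ * q ⟨v.1, hUH v.2⟩ := by
        rw [← map_mul]; rfl
      have h := hi (u * v)
      rw [hprod, mul_inv_rev, hi, hi] at h
      exact h.symm
  have heq : q ⟨e, heH⟩ * q ⟨e, heH⟩ = 1 := by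
    rw [← map_mul]
    exact hzero _ (by rw [show ((⟨e, heH⟩ * ⟨e, heH⟩ : H) : K) = 1 from he]; exact C.one_mem)
  have hec : ∀ u : U, q ⟨e, heH⟩ * q ⟨u.1, hUH u.2⟩ = q ⟨u.1, hUH u.2⟩ * q ⟨e, heH⟩ := fun u => by
    rw [← mul_inv_eq_one, mul_inv_rev, ← mul_assoc, ← map_inv, ← map_inv, ← map_mul, ← map_mul, ← map_mul]
    refine hzero _ ?_
    show e * u.1 * e⁻¹ * u.1⁻¹ ∈ C
    obtain ⟨w, hw⟩ : (⟨π u.1, map_mono hUV (mem_map_of_mem π u.2)⟩ : WK) ∈ (disp (φW e)).range := by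
      rw [hRW]
      refine mem_fixed.2 (Subtype.ext ?_)
      show π e * π u.1 * (π e)⁻¹ = π u.1
      rw [mul_inv_eq_iff_eq_mul]
      exact (mem_centralizer_singleton_iff.1 u.2.2).symm
    obtain ⟨_, a, ha, rfl⟩ := w
    have hua : π a * (π e * π a * (π e)⁻¹) = π u.1 := congrArg Subtype.val hw
    set a' := e * a * e⁻¹ with ha'
    have ha'V : a' ∈ V := hV.conj_mem a ha e
    set m := (a * a')⁻¹ * u.1 with hm
    have hmM : m ∈ M := (QuotientGroup.eq_one_iff _).1 (by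
      show π m = 1
      rw [hm, ha', map_mul, map_inv, map_mul, map_mul, map_mul, map_inv, hua, inv_mul_cancel])
    have hu : u.1 = a * a' * m := by rw [hm]; group
    set m' := e * m * e⁻¹ with hm'
    have hm'M : m' ∈ M := hM.conj_mem m hmM e
    have hea' : e * a' * e⁻¹ = a := by
      rw [ha', show e * (e * a * e⁻¹) * e⁻¹ = (e * e) * a * (e * e)⁻¹ by group, he, one_mul, inv_one, mul_one]
    set c := a' * a * a'⁻¹ * a⁻¹ with hc
    have hcM : c ∈ M := (QuotientGroup.eq_one_iff _).1 (by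
      show π c = 1
      have h := congrArg Subtype.val (hab ⟨π a', a', ha'V, rfl⟩ ⟨π a, a, ha, rfl⟩)
      change π a' * π a = π a * π a' at h
      rw [hc, map_mul, map_mul, map_mul, map_inv, map_inv, h]; group)
    have hexp : e * u.1 * e⁻¹ * u.1⁻¹ = c * (m' * m⁻¹) := by
      rw [hu, show e * (a * a' * m) * e⁻¹ = (e * a * e⁻¹) * (e * a' * e⁻¹) * (e * m * e⁻¹) by group,
        ← ha', ← hm', hea', show a' * a * m' * (a * a' * m)⁻¹ = a' * a * ((m' * m⁻¹) * (a'⁻¹ * a⁻¹)) by group,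
        (hMc (m' * m⁻¹) (mul_mem hm'M (inv_mem hmM)) (a'⁻¹ * a⁻¹) (mul_mem (inv_mem ha'V) (inv_mem ha))).eq, hc]
      group
    rw [hexp]
    refine mul_mem (hCmem c hcM ?_) ?_
    · rw [hc, show e * (a' * a * a'⁻¹ * a⁻¹) * e⁻¹ =
        (e * a' * e⁻¹) * (e * a * e⁻¹) * (e * a' * e⁻¹)⁻¹ * (e * a * e⁻¹)⁻¹ by group, hea', ← ha',
        show a * a' * a⁻¹ * a'⁻¹ = c⁻¹ by rw [hc]; group]
      exact inv_eq_of_mul_eq_one_left (hM2 c hcM)
    · refine ⟨⟨m' * m⁻¹, mul_mem hm'M (inv_mem hmM)⟩, ?_, rfl⟩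
      rw [← hRM]
      refine ⟨⟨m, hmM⟩, Subtype.ext ?_⟩
      show m * (e * m * e⁻¹) = m' * m⁻¹
      rw [inv_eq_of_mul_eq_one_left (hM2 m hmM), ← hm']
      exact (hMc m hmM m' (hMV hm'M)).eq
  have hScomm : ∀ a ∈ S, ∀ b ∈ S, a * b = b * a := by
    intro a ha b hb
    rcases ha with rfl | ⟨u, rfl⟩ <;> rcases hb with rfl | ⟨v, rfl⟩
    · rfl
    · exact hec v
    · exact (hec u).symm
    · exact hUc u v
  have hS2 : ∀ a ∈ S, a * a = 1 := by
    intro a ha
    rcases ha with rfl | ⟨u, rfl⟩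
    · exact heq
    · exact hUsq u
  obtain ⟨hcomm, hexp⟩ := elementary_of_generators hgen hScomm hS2
  have hbound := hK H N ⊤ hcomm hexp
  rw [card_top] at hbound
  have hHU : 2 * Nat.card U ≤ Nat.card H := by
    have hm := card_mul_index (U.subgroupOf H)
    rw [Nat.card_congr (subgroupOfEquivOfLe hUH).toEquiv] at hm
    have h2 : 1 < (U.subgroupOf H).index := one_lt_index_of_ne_top fun h => by
      rw [subgroupOf_eq_top] at h
      exact heV (hUV (h heH))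
    rw [← hm, mul_comm 2]
    exact Nat.mul_le_mul_left _ h2
  have hN4 : Nat.card N = 4 := by
    rw [hN, Nat.card_congr (subgroupOfEquivOfLe hCH).toEquiv, hC, card_map_of_injective M.subtype_injective]
    exact hCM
  have hq' : Nat.card (H ⧸ N) * 4 = Nat.card H := by
    rw [← hN4]; exact (card_eq_card_quotient_mul_card_subgroup N).symm
  omega

end Cfsg.Lib.Small.SecRankFour
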